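import Cfsg.Agent.SuzukiSolv.Center
import Cfsg.Agent.SuzukiTwo.Elementary

/-!
All squares are central, for a solvable transitive group of automorphisms.
-/

set_option autoImplicit false

namespace CfsgLib.SuzukiSolv

open CfsgLib.SuzukiTwo (Inv Abl layer mem_layer layer_normal layer_inv le_layer exists_mem_layer pow_sq
  sq_mul_identity centralizer_inv scaleConj scaleConj_apply)

variable {P : Type*} [Group P]

namespace SCtx

variable {K : Subgroup (MulAut P)} (h : SCtx P K)
include h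

/-- Abelian invariant normal subgroups have exponent at most four. -/
theorem abl_pow_four {A₀ : Subgroup P} (hA₀ : Abl K A₀) {a : P} (ha : a ∈ A₀) : a ^ 4 = 1 := by
  classical
  haveI := h.fin
  by_contra hne
  obtain ⟨x, y, hxy⟩ := h.nonabelian
  obtain ⟨A, hAA, hAmax⟩ := (Set.toFinite {A : Subgroup P | Abl K A}).exists_le_maximal hA₀
  have hA : Abl K A := hAmax.prop
  haveI := hA.normal
  obtain ⟨f, hf1, hf, hf'⟩ := h.exists_exponent hA
  have h3 : 3 ≤ f := by
    by_contra hlt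
    apply hne
    have := hf a (hAA ha)
    interval_cases f
    · rw [show (4 : ℕ) = 2 ^ 1 * 2 by norm_num, pow_mul, this, one_pow]
    · simpa using this
  by_cases hle : Subgroup.centralizer (A : Set P) ≤ A
  · refine h.selfCentralizing_false hA (fun e => hxy ?_) (fun z hz => hle ?_) h3 hf hf'
    · exact hA.comm x (e ▸ Subgroup.mem_top x) y (e ▸ Subgroup.mem_top y)
    · exact Subgroup.mem_centralizer_iff.mpr fun b hb => (hz b hb).symm
  · obtain ⟨hU, ⟨u, hu, huA⟩, -⟩ := h.layer_comm hA (C := Subgroup.centralizer (A : Set P))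
      (Subgroup.normal_centralizer) (centralizer_inv hA.inv)
      (fun b hb => Subgroup.mem_centralizer_iff.mpr fun c hc => hA.comm c hc b hb)
      (fun c hc b hb => ((Subgroup.mem_centralizer_iff.mp hc) b hb).symm) hle (by omega) hf hf'
    exact huA (hAmax.le_of_ge (show layer A _ ∈ {B : Subgroup P | Abl K B} from hU)
      (le_layer (fun b hb => Subgroup.mem_centralizer_iff.mpr fun c hc => hA.comm c hc b hb)) hu)

theorem mem_center_iff {x : P} : x ∈ Subgroup.center P ↔ x * x = 1 :=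
  ⟨h.center_sq, fun hx => Subgroup.mem_center_iff.mpr fun g => h.central hx g⟩

/-- All squares are central. -/
theorem sq_mem_center (g : P) : g * g ∈ Subgroup.center P := by
  classical
  haveI := h.fin
  by_contra hg
  let Z := Subgroup.center P
  let W := layer Z ⊤
  have hWn : W.Normal := layer_normal inferInstance
  have hWinv : Inv K W := layer_inv (abl_center h).inv (fun k _ x _ => Subgroup.mem_top _)
  have hZW : Z ≤ W := le_layer le_top
  have hWsq : ∀ w ∈ W, w * w ∈ Z := fun w hw => (mem_layer.mp hw).2.1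
  have hκ : ∀ (y : P), ∀ w ∈ W, y⁻¹ * w * y * w⁻¹ ∈ Z := fun y w hw => by
    simpa using (mem_layer.mp hw).2.2 y⁻¹
  -- squares centralize the first layer
  have hsqC : ∀ y : P, y * y ∈ Subgroup.centralizer (W : Set P) := by
    intro y
    refine Subgroup.mem_centralizer_iff.mpr fun w hw => ?_
    have hz := Subgroup.mem_center_iff.mp (hκ y w hw)
    have hz2 := h.center_sq (hκ y w hw)
    set z := y⁻¹ * w * y * w⁻¹ with hzdef
    have e : y⁻¹ * w * y = z * w := by rw [hzdef]; group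
    calc w * (y * y) = y * (y⁻¹ * w * y) * y := by group
      _ = y * (z * w) * y := by rw [e]
      _ = y * z * y * (y⁻¹ * w * y) := by group
      _ = z * y * y * (z * w) := by rw [hz y, e]
      _ = z * (y * y * z) * w := by group
      _ = z * z * (y * y) * w := by rw [hz (y * y)]; group
      _ = y * y * w := by rw [hz2, one_mul]
  obtain ⟨x, hx, hxZ⟩ := exists_mem_layer h.pgroup (A := Z)
    (C := Subgroup.centralizer (W : Set P)) Subgroup.normal_centralizer (fun hle => hg (hle (hsqC g)))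
  obtain ⟨hxC, hx2, hxg⟩ := mem_layer.mp hx
  have hxW : x ∈ W := mem_layer.mpr ⟨Subgroup.mem_top _, hx2, hxg⟩
  have hx21 : x * x ≠ 1 := fun e => hxZ (h.mem_center_iff.mpr e)
  have hroot : ∀ z : P, z * z = 1 → ∃ b ∈ W, (∀ w ∈ W, w * b = b * w) ∧ b * b = z := by
    intro z hz
    by_cases hz1 : z = 1
    · exact ⟨1, W.one_mem, fun w _ => by simp, by simp [hz1]⟩
    obtain ⟨k, hk, hkx⟩ := h.trans (x * x) z hx21 (h.center_sq hx2) hz1 hz
    exact ⟨k x, hWinv k hk x hxW, fun w hw => Subgroup.mem_centralizer_iff.mp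
      (centralizer_inv hWinv k hk x hxC) w hw, by rw [← map_mul, hkx]⟩
  have hcomm : ∀ a ∈ W, ∀ b ∈ W, a * b = b * a := by
    intro a ha b hb
    obtain ⟨c, hcW, hcC, hc2⟩ := hroot (a * a) (h.center_sq (hWsq a ha))
    have e : c⁻¹ * a ∈ Z := h.mem_center_iff.mpr (by
      calc c⁻¹ * a * (c⁻¹ * a) = c⁻¹ * (a * c⁻¹) * a := by group
        _ = c⁻¹ * (c⁻¹ * a) * a := by rw [(Commute.inv_right (hcC a ha : Commute a c)).eq]
        _ = (c * c)⁻¹ * (a * a) := by group
        _ = 1 := by rw [hc2, inv_mul_cancel])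
    calc a * b = c * ((c⁻¹ * a) * b) := by group
      _ = c * (b * (c⁻¹ * a)) := by rw [Subgroup.mem_center_iff.mp e b]
      _ = c * b * (c⁻¹ * a) := by group
      _ = b * c * (c⁻¹ * a) := by rw [hcC b hb]
      _ = b * a := by group
  have hW : Abl K W := ⟨hWn, hWinv, hcomm, fun y hy => hZW (h.mem_center_iff.mpr hy)⟩
  haveI := hWn
  have hCW : Subgroup.centralizer (W : Set P) ≤ W := by
    by_contra hle
    obtain ⟨hL, -, y, hy, hy4⟩ := h.layer_comm hW (C := Subgroup.centralizer (W : Set P))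
      Subgroup.normal_centralizer (centralizer_inv hWinv)
      (fun b hb => Subgroup.mem_centralizer_iff.mpr fun c hc => hcomm c hc b hb)
      (fun c hc b hb => ((Subgroup.mem_centralizer_iff.mp hc) b hb).symm) hle (f := 2) le_rfl
      (fun a ha => by
        rw [show 2 ^ 2 = 2 * 2 from rfl, pow_mul, pow_two, pow_two]
        exact h.center_sq (hWsq a ha))
      ⟨x, hxW, by simpa [pow_two] using hx21⟩
    exact hy4 (h.abl_pow_four hL hy)
  -- coordinates
  obtain ⟨F, iF, iT, iC, ω, Hs, hωadd, hωinj, hωΩ, hHg, hHs1, hHk⟩ := h.exists_coords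
  have hω0 : ω 0 = 1 := by
    have := hωadd 0 0
    rwa [add_zero, left_eq_mul] at this
  have hω2 : ∀ a, ω a * ω a = 1 := fun a => (hωΩ _).mpr ⟨a, rfl⟩
  choose rt hrtW hrtC hrt using fun a : F => hroot (ω a) (hω2 a)
  choose co hco using fun z : Z => (hωΩ (z : P)).mp (h.center_sq z.2)
  let κ : P → W → Z := fun y w => ⟨_, hκ y w w.2⟩
  have hκmulr : ∀ y, ∀ a b : W, ((κ y (a * b) : Z) : P) = (κ y a : P) * (κ y b : P) := by
    intro y a b
    show y⁻¹ * ((a : P) * b) * y * ((a : P) * b)⁻¹ = _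
    calc y⁻¹ * ((a : P) * b) * y * ((a : P) * b)⁻¹
        = y⁻¹ * a * y * (y⁻¹ * b * y * (b : P)⁻¹) * (a : P)⁻¹ := by group
      _ = y⁻¹ * a * y * ((a : P)⁻¹ * (y⁻¹ * b * y * (b : P)⁻¹)) := by
        rw [Subgroup.mem_center_iff.mp (hκ y _ b.2) (a : P)⁻¹]; group
      _ = _ := by simp only [κ]; group
  have hκmull : ∀ y u, ∀ a : W, ((κ (y * u) a : Z) : P) = (κ y a : P) * (κ u a : P) := by
    intro y u a
    show (y * u)⁻¹ * (a : P) * (y * u) * (a : P)⁻¹ = _
    calc (y * u)⁻¹ * (a : P) * (y * u) * (a : P)⁻¹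
        = u⁻¹ * (y⁻¹ * a * y * (a : P)⁻¹) * (a * u * (a : P)⁻¹) := by group
      _ = y⁻¹ * a * y * (a : P)⁻¹ * u⁻¹ * (a * u * (a : P)⁻¹) := by
        rw [Subgroup.mem_center_iff.mp (hκ y _ a.2) u⁻¹]
      _ = _ := by simp only [κ]; group
  have hκsq : ∀ y, ∀ a b : W, (a : P) * a = (b : P) * b → κ y a = κ y b := by
    intro y a b e
    have hab : (b : P)⁻¹ * a ∈ Z := h.mem_center_iff.mpr (by
      calc (b : P)⁻¹ * a * ((b : P)⁻¹ * a) = (b : P)⁻¹ * (a * (b : P)⁻¹) * a := by group
        _ = (b : P)⁻¹ * ((b : P)⁻¹ * a) * a := by rw [hcomm _ a.2 _ (W.inv_mem b.2)]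
        _ = ((b : P) * b)⁻¹ * ((a : P) * a) := by group
        _ = 1 := by rw [e, inv_mul_cancel])
    have e2 : κ y (⟨_, W.mul_mem (W.inv_mem b.2) a.2⟩ : W) = 1 := Subtype.ext (by
      show y⁻¹ * ((b : P)⁻¹ * a) * y * ((b : P)⁻¹ * a)⁻¹ = 1
      rw [Subgroup.mem_center_iff.mp hab y⁻¹, inv_mul_cancel_right, mul_inv_cancel])
    apply Subtype.ext
    have := hκmulr y b ⟨_, W.mul_mem (W.inv_mem b.2) a.2⟩
    rw [e2, OneMemClass.coe_one, mul_one] at this
    rw [← this]
    congr 2
    exact Subtype.ext (mul_inv_cancel_left (b : P) a).symm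
  let T : P → F →+ F := fun y => AddMonoidHom.mk' (fun a => co (κ y ⟨rt a, hrtW a⟩)) fun a b => by
    apply hωinj
    rw [hωadd, hco, hco, hco, ← hκmulr]
    refine congrArg Subtype.val (hκsq y _ _ ?_)
    show rt (a + b) * rt (a + b) = rt a * rt b * (rt a * rt b)
    rw [hrt, hωadd, ← hrt a, ← hrt b]
    calc rt a * rt a * (rt b * rt b) = rt a * (rt a * rt b) * rt b := by group
      _ = rt a * (rt b * rt a) * rt b := by rw [hrtC b _ (hrtW a)]
      _ = _ := by group
  have hT : ∀ y (w : W) a, (w : P) * w = ω a → ω (T y a) = y⁻¹ * w * y * (w : P)⁻¹ := by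
    intro y w a e
    show ω (co (κ y ⟨rt a, hrtW a⟩)) = _
    rw [hco, hκsq y ⟨rt a, hrtW a⟩ w (by rw [e]; exact hrt a)]
  have hTmul : ∀ y u, T (y * u) = T y + T u := fun y u => AddMonoidHom.ext fun a => hωinj (by
    rw [AddMonoidHom.add_apply, hωadd]
    show ω (co _) = ω (co _) * ω (co _)
    rw [hco, hco, hco, hκmull])
  have hTker : ∀ y, T y = 0 ↔ y ∈ W := by
    intro y
    refine ⟨fun e => hCW (Subgroup.mem_centralizer_iff.mpr fun w hw => ?_), fun hy => ?_⟩
    · obtain ⟨a, ha⟩ := (hωΩ _).mp (h.center_sq (hWsq w hw))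
      have := hT y ⟨w, hw⟩ a ha.symm
      rw [e, AddMonoidHom.zero_apply, hω0] at this
      calc w * y = y * (y⁻¹ * w * y * w⁻¹) * w := by group
        _ = y * w := by rw [← this, mul_one]
    · ext a
      apply hωinj
      rw [hT y ⟨rt a, hrtW a⟩ a (hrt a), AddMonoidHom.zero_apply, hω0]
      show y⁻¹ * rt a * y * (rt a)⁻¹ = 1
      rw [mul_assoc y⁻¹, hcomm _ (hrtW a) _ hy, inv_mul_cancel_left, mul_inv_cancel]
  have hT1 : T 1 = 0 := (hTker 1).mpr W.one_mem
  have hTinv : ∀ y, T y⁻¹ = T y := fun y => by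
    have := hTmul y y⁻¹
    rw [mul_inv_cancel, hT1] at this
    ext a
    have := DFunLike.congr_fun this a
    rw [AddMonoidHom.zero_apply, AddMonoidHom.add_apply] at this
    exact (CharTwo.add_eq_zero.mp this.symm).symm
  let E : AddSubgroup (F →+ F) :=
    { carrier := Set.range T
      zero_mem' := ⟨1, hT1⟩
      add_mem' := by rintro _ _ ⟨y, rfl⟩ ⟨u, rfl⟩; exact ⟨y * u, hTmul y u⟩
      neg_mem' := by
        rintro _ ⟨y, rfl⟩
        exact ⟨y, AddMonoidHom.ext fun a => (CharTwo.neg_eq _).symm⟩ }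
  have hTeq : ∀ y u, T y = T u → y⁻¹ * u ∈ W := fun y u e => (hTker _).mp (by
    rw [hTmul, hTinv, e]; exact AddMonoidHom.ext fun a => CharTwo.add_self_eq_zero _)
  have hysq : ∀ y : P, y * y ∈ W := fun y => hCW (hsqC y)
  have hy4 : ∀ y : P, y * y * (y * y) ∈ Z := fun y => hWsq _ (hysq y)
  let s0 : P → F := fun y => co ⟨_, hy4 y⟩
  have hs0 : ∀ y, ω (s0 y) = y * y * (y * y) := fun y => hco ⟨_, hy4 y⟩
  have hs0W : ∀ y, ∀ w ∈ W, s0 (y * w) = s0 y := by
    intro y w hw
    apply hωinj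
    rw [hs0, hs0]
    obtain ⟨z, hz, e⟩ : ∃ z ∈ Z, y * w * (y * w) = y * y * z := by
      refine ⟨y⁻¹ * w * y * w⁻¹ * (w * w), Z.mul_mem (hκ y w hw) (hWsq w hw), by group⟩
    have hc := Subgroup.mem_center_iff.mp hz
    rw [e]
    calc y * y * z * (y * y * z) = y * y * (z * (y * y)) * z := by group
      _ = y * y * (y * y) * (z * z) := by rw [← hc (y * y)]; group
      _ = _ := by rw [h.center_sq hz, mul_one]
  let s : (F →+ F) → F := fun U => s0 (Function.invFun T U)
  have hs : ∀ y, s (T y) = s0 y := fun y => by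
    have e := Function.invFun_eq (f := T) ⟨y, rfl⟩
    have := hs0W y _ (hTeq y _ e.symm)
    rw [mul_inv_cancel_left] at this
    exact this
  let ec : P → P → P := fun y u => y⁻¹ * u * y * u⁻¹
  have hecW : ∀ y u, ec y u ∈ W := fun y u => (hTker _).mp (by
    simp only [ec, hTmul, hTinv]
    ext a
    simp only [AddMonoidHom.add_apply, AddMonoidHom.zero_apply]
    linear_combination CharTwo.add_self_eq_zero (T y a) + CharTwo.add_self_eq_zero (T u a))
  let c0 : P → P → F := fun y u => s0 (y * u) + s0 y + s0 u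
  have hc0 : ∀ y u, ω (c0 y u) = ec y u * ec y u := by
    intro y u
    have e : y * u * (y * u) = y * y * ec y u * (u * u) := by simp only [ec]; group
    simp only [c0, hωadd, hs0, e]
    have p := hysq y
    have q := hecW y u
    have r := hysq u
    generalize y * y = A at p ⊢
    generalize ec y u = B at q ⊢
    generalize u * u = D at r ⊢
    have hA : A * A * (A * A) = 1 := h.center_sq (hWsq _ p)
    have hD : D * D * (D * D) = 1 := h.center_sq (hWsq _ r)
    letI : CommGroup W := { (inferInstance : Group W) with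
      mul_comm := fun a b => Subtype.ext (hcomm _ a.2 _ b.2) }
    have := congrArg Subtype.val (sq_mul_identity (⟨A, p⟩ : W) ⟨B, q⟩ ⟨D, r⟩)
    simpa [hA, hD] using this
  have hc0add : ∀ y u v, c0 (y * u) v = c0 y v + c0 u v := by
    intro y u v
    apply hωinj
    rw [hc0, hωadd, hc0, hc0]
    have e : ec (y * u) v = u⁻¹ * ec y v * u * ec u v := by simp only [ec]; group
    have hmem : u⁻¹ * ec y v * u ∈ W := by simpa using hWn.conj_mem _ (hecW y v) u⁻¹
    have hc := Subgroup.mem_center_iff.mp (hWsq _ (hecW y v))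
    rw [e]
    calc u⁻¹ * ec y v * u * ec u v * (u⁻¹ * ec y v * u * ec u v)
        = u⁻¹ * ec y v * u * (ec u v * (u⁻¹ * ec y v * u)) * ec u v := by group
      _ = u⁻¹ * ec y v * u * (u⁻¹ * ec y v * u * ec u v) * ec u v := by
          rw [hcomm _ (hecW u v) _ hmem]
      _ = u⁻¹ * (ec y v * ec y v) * u * (ec u v * ec u v) := by group
      _ = _ := by rw [hc u⁻¹]; group
  have hscale : ∀ μ : Fˣ, μ ∈ Hs → ∀ k : MulAut P, k ∈ K → (∀ a : F, k (ω a) = ω ((μ : F) * a)) →
      ∀ y, scaleConj (μ : F) (T y) = T (k y) := by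
    intro μ _ k hk hkμ y
    ext a
    apply hωinj
    rw [scaleConj_apply, ← hkμ, hT y ⟨rt ((μ : F)⁻¹ * a), hrtW _⟩ _ (hrt _),
      hT _ ⟨k (rt ((μ : F)⁻¹ * a)), hWinv _ hk _ (hrtW _)⟩ a (by
        show k _ * k _ = _
        rw [← map_mul, hrt, hkμ, mul_inv_cancel_left₀ (Units.ne_zero μ)])]
    simp
  have hz := endo_quad_eq_zero_of_good hHg hHs1 E (fun μ hμ U hU => by
      obtain ⟨y, rfl⟩ := hU
      obtain ⟨k, hk, hkμ⟩ := hHk μ hμ
      exact ⟨k y, (hscale μ hμ k hk hkμ y).symm⟩)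
    (fun μ hμ U hU e => by
      obtain ⟨y, rfl⟩ := hU
      by_cases hk1 : μ = 1
      · exact Or.inr hk1
      left
      obtain ⟨k, hk, hkμ⟩ := hHk μ hμ
      have hμ1 : (μ : F) ≠ 1 := fun e0 => hk1 (Units.ext e0)
      have e' : T (k y) = T y := by rw [← hscale μ hμ k hk hkμ, e]
      have hw := hTeq _ _ e'.symm
      let φ : W → W := fun w => ⟨w * (k w)⁻¹, W.mul_mem w.2 (W.inv_mem (hWinv _ hk _ w.2))⟩
      have hφ : Function.Injective φ := by
        intro a b eab
        have e1 : (a : P) * (k a)⁻¹ = b * (k b)⁻¹ := congrArg Subtype.val eab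
        have hfix : k ((b : P)⁻¹ * a) = (b : P)⁻¹ * a := by
          rw [map_mul, map_inv]
          conv_rhs => rw [show (a : P) = b * (k b)⁻¹ * k a by
            rw [← e1, inv_mul_cancel_right]]
          group
        have := h.eq_one_of_fixed hω0 hωinj hωΩ hkμ hμ1 hfix
        exact Subtype.ext (inv_mul_eq_one.mp this).symm
      obtain ⟨w, hw'⟩ := (Finite.injective_iff_surjective.mp hφ) ⟨_, hw⟩
      have e2 : (w : P) * (k w)⁻¹ = y⁻¹ * k y := congrArg Subtype.val hw'
      have hyw := h.eq_one_of_fixed hω0 hωinj hωΩ hkμ hμ1 (x := y * w) (by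
        rw [map_mul]
        calc k y * k w
            = y * (y⁻¹ * k y) * k w := by group
          _ = y * w := by rw [← e2]; group)
      apply (hTker y).mpr
      rw [eq_inv_of_mul_eq_one_left hyw]
      exact W.inv_mem w.2)
    s (fun U hU => by
      obtain ⟨y, rfl⟩ := hU
      apply hωinj
      rw [hs, hT y ⟨y * y, hysq y⟩ (s0 y) (hs0 y).symm, hω0]
      group)
    (fun A hA B hB C hC => by
      obtain ⟨y, rfl⟩ := hA
      obtain ⟨u, rfl⟩ := hB
      obtain ⟨v, rfl⟩ := hC
      simp only [← hTmul, hs]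
      have e := hc0add y u v
      simp only [c0] at e
      linear_combination e + CharTwo.add_self_eq_zero (s0 (y * v) + s0 (u * v) + s0 y + s0 u + s0 v)
    )
  have := hs0 g
  rw [← hs, hz (T g) ⟨g, rfl⟩, hω0] at this
  exact hg (h.mem_center_iff.mpr this.symm)

end SCtx

end CfsgLib.SuzukiSolv
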