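import Cfsg.Agent.SuzukiSolv.Weights
import Cfsg.Agent.SuzukiTwo.Basic
import Cfsg.Agent.S3360

/-!
2-groups with a solvable group of automorphisms transitive on the involutions: field coordinates on the
involutions with a good subgroup of scalars, and the pairing lemma.
-/

set_option autoImplicit false

namespace CfsgLib.SuzukiSolv

open CfsgLib.SuzukiTwo (Inv)

/-- Semilinear transitive groups contain a good group of scalars. -/
theorem exists_good_scalars {F : Type*} [Field F] [Fintype F] [CharP F 2] {G : Type*} [Group G]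
    [Finite G] (act : G → F → F) (hmul : ∀ g h x, act (g * h) x = act g (act h x))
    (hone : ∀ x, act 1 x = x) (hsemi : ∀ g, ∃ (a : F) (σ : F ≃+* F), ∀ x, act g x = a * σ x)
    (htr : ∀ x : F, x ≠ 0 → ∃ g, act g 1 = x) (hbig : ∃ μ : F, μ ≠ 0 ∧ μ ≠ 1) :
    ∃ H : Subgroup Fˣ, GoodSub H ∧ H ≠ ⊥ ∧ ∀ μ ∈ H, ∃ g, ∀ x, act g x = (μ : Fˣ) * x := by
  classical
  choose a σ hσ using hsemi
  have ha0 : ∀ g, a g ≠ 0 := fun g e => by
    obtain ⟨μ, hμ, -⟩ := hbig
    have h1 : act g⁻¹ (act g μ) = μ := by rw [← hmul, inv_mul_cancel, hone]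
    rw [hσ g, e, zero_mul, hσ g⁻¹, map_zero, mul_zero] at h1
    exact hμ h1.symm
  have ha : ∀ g h, a (g * h) = a g * σ g (a h) := fun g h => by
    have := hmul g h 1
    rwa [hσ (g * h), hσ h, map_one, mul_one, map_one, mul_one, hσ g] at this
  have hσm : ∀ g h x, σ (g * h) x = σ g (σ h x) := fun g h x => by
    have := hmul g h x
    rw [hσ (g * h), hσ h, hσ g, map_mul, ha, mul_assoc] at this
    exact mul_left_cancel₀ (by simpa using ha0 h) (mul_left_cancel₀ (ha0 g) this)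
  have hσ1 : ∀ x, σ 1 x = x := fun x => by
    have h1 : a 1 = 1 := by
      have := hone 1
      rwa [hσ, map_one, mul_one] at this
    have := hone x
    rwa [hσ, h1, one_mul] at this
  have ha1 : a 1 = 1 := by
    have := hone 1
    rwa [hσ, map_one, mul_one] at this
  have hinv' : ∀ g x, σ g (σ g⁻¹ x) = x := fun g x => by rw [← hσm, mul_inv_cancel, hσ1]
  have hainv : ∀ g, a g * σ g (a g⁻¹) = 1 := fun g => by rw [← ha, mul_inv_cancel, ha1]
  let au : G → Fˣ := fun g => Units.mk0 (a g) (ha0 g)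
  let H : Subgroup Fˣ :=
    { carrier := {μ | ∃ g, (∀ x, σ g x = x) ∧ au g = μ}
      one_mem' := ⟨1, hσ1, Units.ext ha1⟩
      mul_mem' := by
        rintro _ _ ⟨g, hg, rfl⟩ ⟨h, hh, rfl⟩
        exact ⟨g * h, fun x => by rw [hσm, hh, hg], Units.ext (by simp [au, ha, hg])⟩
      inv_mem' := by
        rintro _ ⟨g, hg, rfl⟩
        have hg' : ∀ x, σ g⁻¹ x = x := fun x => by
          conv_rhs => rw [← hinv' g x, hg]
        refine ⟨g⁻¹, hg', eq_inv_of_mul_eq_one_right (Units.ext ?_)⟩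
        have := hainv g
        rw [hg] at this
        simpa [au] using this }
  let S : Subgroup G :=
    { carrier := {g | au g ∈ H}
      one_mem' := by
        show au 1 ∈ H
        exact ⟨1, hσ1, rfl⟩
      mul_mem' := fun {g h} hg hh => by
        obtain ⟨ν, hν, e⟩ := aut_mem (σ g) (show au h ∈ H from hh)
        show au (g * h) ∈ H
        rw [show au (g * h) = au g * ν from Units.ext (by simp [au, ha, e])]
        exact H.mul_mem hg hν
      inv_mem' := fun {g} hg => by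
        obtain ⟨ν, hν, e⟩ := aut_mem (σ g⁻¹) (H.inv_mem (show au g ∈ H from hg))
        show au g⁻¹ ∈ H
        rw [show au g⁻¹ = ν from Units.ext ?_]
        · exact hν
        · have h1 := congrArg (σ g⁻¹) (hainv g)
          have h2 : σ g⁻¹ (σ g (a g⁻¹)) = a g⁻¹ := by rw [← hσm, inv_mul_cancel, hσ1]
          rw [map_mul, h2, map_one] at h1
          rw [e]
          show a g⁻¹ = σ g⁻¹ ((au g)⁻¹ : Fˣ)
          rw [Units.val_inv_eq_inv_val, map_inv₀]
          exact eq_inv_of_mul_eq_one_right h1 }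
  have hidx : H.index = S.index := by
    refine (Nat.card_eq_of_bijective (fun q : G ⧸ S => Quotient.liftOn' q
      (fun g => ((au g : Fˣ) : Fˣ ⧸ H)) (fun g h hgh => ?_)) ⟨?_, ?_⟩).symm
    · rw [QuotientGroup.leftRel_apply] at hgh
      obtain ⟨ν, hν, e⟩ := aut_mem (σ g) (show au (g⁻¹ * h) ∈ H from hgh)
      rw [QuotientGroup.eq]
      rw [show au h = au g * ν from Units.ext (by
        simp only [au, Units.val_mk0, Units.val_mul, e, ← ha, mul_inv_cancel_left]), inv_mul_cancel_left]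
      exact hν
    · rintro ⟨g⟩ ⟨h⟩ e
      refine Quotient.sound' ?_
      rw [QuotientGroup.leftRel_apply]
      change ((au g : Fˣ) : Fˣ ⧸ H) = (au h : Fˣ) at e
      rw [QuotientGroup.eq] at e
      obtain ⟨ν, hν, e'⟩ := aut_mem (σ g⁻¹) e
      show au (g⁻¹ * h) ∈ H
      rw [show au (g⁻¹ * h) = ν from Units.ext ?_]
      · exact hν
      · rw [e']
        simp only [au, Units.val_mk0, Units.val_mul, Units.val_inv_eq_inv_val, ha, map_mul, map_inv₀]
        have h2 : σ g⁻¹ (a g) * a g⁻¹ = 1 := by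
          have := ha g⁻¹ g
          rw [inv_mul_cancel, ha1] at this
          rw [mul_comm]; exact this.symm
        rw [eq_inv_of_mul_eq_one_right h2]
    · intro q
      obtain ⟨μ, rfl⟩ := QuotientGroup.mk_surjective q
      obtain ⟨g, hg⟩ := htr μ (Units.ne_zero μ)
      refine ⟨(g : G ⧸ S), ?_⟩
      show ((au g : Fˣ) : Fˣ ⧸ H) = μ
      rw [show au g = μ from Units.ext (by rw [← hg, hσ, map_one, mul_one]; rfl)]
  let π : G →* (F ≃+* F) :=
    MonoidHom.mk' σ (fun g h => RingEquiv.ext fun x => hσm g h x)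
  have hker : π.ker ≤ S := fun g hg => ⟨g, fun x => RingEquiv.congr_fun (MonoidHom.mem_ker.mp hg) x, rfl⟩
  haveI := FieldAutBasis.finite_ringAut (F := F)
  have hdvd : H.index ∣ Nat.card (F ≃+* F) := by
    rw [hidx]
    refine (Subgroup.index_dvd_of_le hker).trans ?_
    rw [Subgroup.index_ker]
    exact Subgroup.card_subgroup_dvd_card _
  refine ⟨H, goodSub_of_index hdvd, fun hbot => ?_, ?_⟩
  · obtain ⟨n, hn, hAut, hF, -⟩ := exists_card_ringAut (F := F)
    obtain ⟨μ, hμ0, hμ1⟩ := hbig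
    have h1 : H.index = 2 ^ n - 1 := by
      rw [hbot, Subgroup.index_bot, Nat.card_units, Nat.card_eq_fintype_card, hF]
    rw [h1, hAut] at hdvd
    have hle := Nat.le_of_dvd hn hdvd
    rcases Nat.lt_or_ge n 2 with h2 | h2
    · obtain rfl : n = 1 := by omega
      have h3 : ({0, 1, μ} : Finset F).card = 3 := by simp [Ne.symm hμ0, Ne.symm hμ1]
      have := Finset.card_le_univ ({0, 1, μ} : Finset F)
      omega
    · have : n + 1 < 2 ^ n := by
        clear * - h2
        induction n, h2 using Nat.le_induction with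
        | base => norm_num
        | succ k hk ih => rw [pow_succ]; omega
      omega
  · rintro _ ⟨g, hg, rfl⟩
    exact ⟨g, fun x => by rw [hσ, hg]; rfl⟩

variable {P : Type*} [Group P]

/-- A 2-group with a solvable automorphism group transitive on the involutions. -/
structure SCtx (P : Type*) [Group P] (K : Subgroup (MulAut P)) : Prop where
  fin : Finite P
  pgroup : IsPGroup 2 P
  nonabelian : ∃ x y : P, x * y ≠ y * x
  two_involutions : ∃ x y : P, x ≠ y ∧ x ≠ 1 ∧ x * x = 1 ∧ y ≠ 1 ∧ y * y = 1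
  sol : Group.IsSolvable K
  trans : ∀ x y : P, x ≠ 1 → x * x = 1 → y ≠ 1 → y * y = 1 → ∃ k ∈ K, k x = y

namespace SCtx

variable {K : Subgroup (MulAut P)} (h : SCtx P K)
include h

theorem exists_two_pow (x : P) : ∃ m, x ^ 2 ^ m = 1 := h.pgroup x

theorem exists_involution_power {x : P} (hx : x ≠ 1) :
    ∃ m, x ^ 2 ^ m ≠ 1 ∧ x ^ 2 ^ m * x ^ 2 ^ m = 1 := by
  classical
  have hex := h.exists_two_pow x
  have h0 : Nat.find hex ≠ 0 := fun e => hx (by
    have := Nat.find_spec hex; rw [e] at this; simpa using this)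
  refine ⟨Nat.find hex - 1, Nat.find_min hex (by omega), ?_⟩
  rw [← pow_add, ← two_mul, ← pow_succ', show Nat.find hex - 1 + 1 = Nat.find hex by omega]
  exact Nat.find_spec hex

theorem central {x : P} (hx : x * x = 1) (g : P) : g * x = x * g := by
  haveI := h.fin
  haveI : Fact (Nat.Prime 2) := ⟨Nat.prime_two⟩
  by_cases h1 : x = 1
  · simp [h1]
  obtain ⟨a, b, hab, ha1, -, -, -⟩ := h.two_involutions
  haveI : Nontrivial P := ⟨⟨a, b, hab⟩⟩
  haveI := h.pgroup.center_nontrivial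
  obtain ⟨z, hz⟩ := exists_ne (1 : Subgroup.center P)
  obtain ⟨m, hm1, hm2⟩ := h.exists_involution_power (fun e => hz (Subtype.ext e) : (z : P) ≠ 1)
  obtain ⟨k, hk, hkx⟩ := h.trans _ x hm1 hm2 h1 hx
  obtain ⟨g', rfl⟩ := k.surjective g
  rw [← hkx, ← map_mul, ← map_mul,
    Subgroup.mem_center_iff.mp ((Subgroup.center P).pow_mem z.2 _) g']

theorem inv_mul_mem {x y : P} (hx : x * x = 1) (hy : y * y = 1) : x * y * (x * y) = 1 := by
  rw [mul_assoc, ← mul_assoc y x, h.central hx y, mul_assoc, hy, mul_one, hx]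

/-- Field coordinates on the involutions, with a good group of scalars. -/
theorem exists_coords : ∃ (F : Type) (_ : Field F) (_ : Fintype F) (_ : CharP F 2) (ω : F → P)
    (H : Subgroup Fˣ),
    (∀ a b, ω (a + b) = ω a * ω b) ∧ Function.Injective ω ∧ (∀ x : P, x * x = 1 ↔ ∃ a, ω a = x) ∧
      GoodSub H ∧ H ≠ ⊥ ∧
      ∀ μ ∈ H, ∃ k ∈ K, ∀ a : F, k (ω a) = ω ((μ : Fˣ) * a) := by
  classical
  haveI := h.fin
  let Ω : Subgroup P :=
    { carrier := {x | x * x = 1}
      one_mem' := one_mul 1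
      mul_mem' := fun hx hy => h.inv_mul_mem hx hy
      inv_mem' := fun {x} hx => by
        show x⁻¹ * x⁻¹ = 1
        rw [← mul_inv_rev, show x * x = 1 from hx, inv_one] }
  letI : CommGroup Ω := { (inferInstance : Group Ω) with
    mul_comm := fun a b => Subtype.ext (h.central b.2 a) }
  have h2 : ∀ a : Additive Ω, 2 • a = 0 := fun a => by
    rw [two_nsmul]
    exact Subtype.ext (show ((Additive.toMul a : Ω) : P) * _ = 1 from (Additive.toMul a).2)
  letI : Module (ZMod 2) (Additive Ω) := AddCommGroup.zmodModule h2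
  have hmem : ∀ (k : MulAut P) (x : Ω), k (x : P) ∈ Ω := fun k x => by
    show k (x : P) * k (x : P) = 1
    rw [← map_mul, show (x : P) * x = 1 from x.2, map_one]
  let lin : MulAut P → (Additive Ω →ₗ[ZMod 2] Additive Ω) := fun k =>
    (MonoidHom.toAdditive (MonoidHom.mk' (fun x : Ω => (⟨k x, hmem k x⟩ : Ω))
      (fun x y => Subtype.ext (map_mul k (x : P) y)))).toZModLinearMap 2
  have hlin : ∀ k v, ((Additive.toMul (lin k v) : Ω) : P) = k ((Additive.toMul v : Ω) : P) :=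
    fun _ _ => rfl
  have hext : ∀ u v : Additive Ω, ((Additive.toMul u : Ω) : P) = (Additive.toMul v : Ω) → u = v :=
    fun u v e => Additive.toMul.injective (Subtype.ext e)
  let ρ : K →* (Additive Ω ≃ₗ[ZMod 2] Additive Ω) :=
    { toFun := fun k => LinearEquiv.ofLinearMap (lin k) (lin (k : MulAut P)⁻¹)
        (LinearMap.ext fun v => hext _ _ (by
          show (k : MulAut P) ((k : MulAut P)⁻¹ _) = _
          rw [← MulAut.mul_apply, mul_inv_cancel, MulAut.one_apply]; rfl))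
        (LinearMap.ext fun v => hext _ _ (by
          show (k : MulAut P)⁻¹ ((k : MulAut P) _) = _
          rw [← MulAut.mul_apply, inv_mul_cancel, MulAut.one_apply]; rfl))
      map_one' := LinearEquiv.ext fun v => hext _ _ rfl
      map_mul' := fun k j => LinearEquiv.ext fun v => hext _ _ rfl }
  haveI := h.sol
  haveI : Group.IsSolvable ρ.range :=
    Group.isSolvable_of_surjective (f := ρ.rangeRestrict) ρ.rangeRestrict_surjective
  obtain ⟨x, y, hxy, hx1, hx, hy1, hy⟩ := h.two_involutions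
  haveI : Nontrivial (Additive Ω) :=
    ⟨⟨Additive.ofMul ⟨x, hx⟩, Additive.ofMul ⟨y, hy⟩,
      fun e => hxy (congrArg (fun a : Additive Ω => ((Additive.toMul a : Ω) : P)) e)⟩⟩
  have htr : ∀ v w : Additive Ω, v ≠ 0 → w ≠ 0 → ∃ k : K, ρ k v = w := by
    intro v w hv hw
    obtain ⟨k, hk, hkv⟩ := h.trans (Additive.toMul v : Ω) (Additive.toMul w : Ω)
      (fun e => hv (hext _ _ e)) (Additive.toMul v).2 (fun e => hw (hext _ _ e)) (Additive.toMul w).2
    exact ⟨⟨k, hk⟩, hext _ _ hkv⟩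
  haveI : Fact (Nat.Prime 2) := ⟨Nat.prime_two⟩
  haveI : Finite (MulAut P) := Finite.of_injective (fun k : MulAut P => (k : P → P)) DFunLike.coe_injective
  haveI : Finite ρ.range := Finite.of_surjective ρ.rangeRestrict ρ.rangeRestrict_surjective
  rcases Cfsg.Agent.S3360.result 2 (V := Additive Ω) (G := ρ.range) inferInstance ρ.range.subtype
    Subtype.val_injective (fun v w hv hw => by
      obtain ⟨k, hk⟩ := htr v w hv hw
      exact ⟨⟨ρ k, k, rfl⟩, hk⟩) with ⟨F, iF, iT, e, he⟩ | hcard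
  swap
  · exfalso
    obtain ⟨m, hm⟩ := IsPGroup.iff_card.1 (h.pgroup.to_subgroup Ω)
    have hc : Nat.card (Additive Ω) = 2 ^ m := by rw [← hm]; exact Nat.card_congr Additive.toMul
    rw [hc] at hcard
    have h2m : m ≠ 0 := by
      intro e0
      have : 1 < Nat.card (Additive Ω) := Finite.one_lt_card
      rw [hc, e0] at this
      simp at this
    have heven : 2 ∣ 2 ^ m := dvd_pow_self 2 h2m
    simp only [Set.mem_insert_iff, Set.mem_singleton_iff] at hcard
    omega
  haveI : CharP F 2 := CharTwo.of_one_ne_zero_of_two_eq_zero one_ne_zero (by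
    have := congrArg e (h2 (e.symm 1))
    rwa [map_zero, map_nsmul, e.apply_symm_apply, nsmul_one, Nat.cast_ofNat] at this)
  let act : ρ.range → F → F := fun g z => e ((g : Additive Ω ≃ₗ[ZMod 2] Additive Ω) (e.symm z))
  obtain ⟨H, hH, hH1, hHk⟩ := exists_good_scalars act
    (fun g j z => by simp [act])
    (fun z => by simp [act])
    (fun g => by
      obtain ⟨a, σ, ha⟩ := he g
      exact ⟨a, σ, fun z => by simpa [act] using ha (e.symm z)⟩)
    (fun z hz => by
      obtain ⟨k, hk⟩ := htr (e.symm 1) (e.symm z) (by simp) (by simpa using hz)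
      exact ⟨⟨ρ k, k, rfl⟩, by simp [act, hk]⟩)
    ⟨e (Additive.ofMul ⟨x, hx⟩) / e (Additive.ofMul ⟨y, hy⟩), by
      have ex : (Additive.ofMul (⟨x, hx⟩ : Ω)) ≠ 0 := fun e' => hx1
        (congrArg (fun a : Additive Ω => ((Additive.toMul a : Ω) : P)) e')
      have ey : (Additive.ofMul (⟨y, hy⟩ : Ω)) ≠ 0 := fun e' => hy1
        (congrArg (fun a : Additive Ω => ((Additive.toMul a : Ω) : P)) e')
      refine ⟨div_ne_zero (by simpa using ex) (by simpa using ey), fun e' => hxy ?_⟩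
      rw [div_eq_one_iff_eq (by simpa using ey), e.injective.eq_iff] at e'
      exact congrArg (fun a : Additive Ω => ((Additive.toMul a : Ω) : P)) e'⟩
  refine ⟨F, iF, iT, inferInstance, fun a => ((Additive.toMul (e.symm a) : Ω) : P), H, fun a b => ?_,
    ?_, fun z => ?_, hH, hH1, fun μ hμ => ?_⟩
  · simp only [map_add]; rfl
  · exact fun a b hab => e.symm.injective (hext _ _ hab)
  · refine ⟨fun hz => ⟨e (Additive.ofMul ⟨z, hz⟩), by simp⟩, ?_⟩
    rintro ⟨a, rfl⟩
    exact (Additive.toMul (e.symm a)).2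
  · obtain ⟨⟨_, k, rfl⟩, hg⟩ := hHk μ hμ
    refine ⟨k, k.2, fun a => ?_⟩
    have := hg a
    simp only [act] at this
    beta_reduce
    rw [← this, e.symm_apply_apply]
    rfl

/-- The pairing lemma, in group language. -/
theorem pairing_eq_one (U : Subgroup P) (hU : Inv K U) (s : P → P) (β : P → P → P)
    (hsΩ : ∀ u ∈ U, s u * s u = 1) (hsmul : ∀ u ∈ U, ∀ v ∈ U, s (u * v) = s u * s v)
    (hseq : ∀ k ∈ K, ∀ u ∈ U, s (k u) = k (s u)) (hsne : ∃ u ∈ U, s u ≠ 1)
    (hβΩ : ∀ u ∈ U, ∀ v ∈ U, β u v * β u v = 1)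
    (hβl : ∀ u ∈ U, ∀ v ∈ U, ∀ w ∈ U, β (u * v) w = β u w * β v w)
    (hβr : ∀ u ∈ U, ∀ v ∈ U, ∀ w ∈ U, β u (v * w) = β u v * β u w)
    (hβeq : ∀ k ∈ K, ∀ u ∈ U, ∀ v ∈ U, β (k u) (k v) = k (β u v))
    (hβker : ∀ u ∈ U, s u = 1 → ∀ v ∈ U, β u v = 1 ∧ β v u = 1)
    (hβd : ∀ u ∈ U, β u u = 1) : ∀ u ∈ U, ∀ v ∈ U, β u v = 1 := by
  obtain ⟨F, iF, iT, iC, ω, H, hωadd, hωinj, hωΩ, hH, -, hHk⟩ := h.exists_coords
  have hω0 : ω 0 = 1 := by
    have := hωadd 0 0
    rwa [add_zero, left_eq_mul] at this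
  obtain ⟨u₀, hu₀, hu₀1⟩ := hsne
  have hsurj : ∀ a, ∃ u ∈ U, s u = ω a := by
    intro a
    by_cases ha : a = 0
    · subst ha
      refine ⟨1, U.one_mem, ?_⟩
      have := hsmul 1 U.one_mem 1 U.one_mem
      rw [mul_one, left_eq_mul] at this
      rw [this, hω0]
    · obtain ⟨k, hk, hku⟩ := h.trans (s u₀) (ω a) hu₀1 (hsΩ _ hu₀)
        (fun e => ha (hωinj (e.trans hω0.symm))) ((hωΩ _).mpr ⟨a, rfl⟩)
      exact ⟨k u₀, hU k hk u₀ hu₀, by rw [hseq k hk u₀ hu₀, hku]⟩
  choose σ hσU hσ using hsurj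
  have diff : ∀ u ∈ U, ∀ v ∈ U, s u = s v → ∀ w ∈ U, β u w = β v w ∧ β w u = β w v := by
    intro u hu v hv e w hw
    have hmem := U.mul_mem hu (U.inv_mem hv)
    have h1 : s (u * v⁻¹) = 1 := by
      have := hsmul _ hmem v hv
      rw [inv_mul_cancel_right, e, right_eq_mul] at this
      exact this
    obtain ⟨e1, e2⟩ := hβker _ hmem h1 w hw
    constructor
    · have := hβl _ hmem v hv w hw
      rwa [inv_mul_cancel_right, e1, one_mul] at this
    · have := hβr w hw _ hmem v hv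
      rwa [inv_mul_cancel_right, e2, one_mul] at this
  have hB : ∀ a b, ∃ c, ω c = β (σ a) (σ b) := fun a b =>
    (hωΩ _).mp (hβΩ _ (hσU a) _ (hσU b))
  choose B hBdef using hB
  have hzero : ∀ a b, B a b = 0 := by
    refine pairing_eq_zero_of_good hH B (fun a b c => hωinj ?_) (fun a b c => hωinj ?_)
      (fun μ hμ a b => hωinj ?_) (fun a => hωinj ?_)
    · rw [hBdef, hωadd, hBdef, hBdef, ← hβl _ (hσU a) _ (hσU b) _ (hσU c)]
      exact (diff _ (hσU _) _ (U.mul_mem (hσU a) (hσU b))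
        (by rw [hσ, hsmul _ (hσU a) _ (hσU b), hσ, hσ, hωadd]) _ (hσU c)).1
    · rw [hBdef, hωadd, hBdef, hBdef, ← hβr _ (hσU a) _ (hσU b) _ (hσU c)]
      exact (diff _ (hσU _) _ (U.mul_mem (hσU b) (hσU c))
        (by rw [hσ, hsmul _ (hσU b) _ (hσU c), hσ, hσ, hωadd]) _ (hσU a)).2
    · obtain ⟨k, hkK, hw⟩ := hHk μ hμ
      rw [← hw, hBdef, hBdef, ← hβeq k hkK _ (hσU a) _ (hσU b)]
      rw [(diff _ (hσU _) _ (hU k hkK _ (hσU a)) (by rw [hseq k hkK _ (hσU a), hσ, hσ, hw]) _ (hσU _)).1]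
      exact (diff _ (hσU _) _ (hU k hkK _ (hσU b)) (by rw [hseq k hkK _ (hσU b), hσ, hσ, hw]) _
        (hU k hkK _ (hσU a))).2
    · rw [hBdef, hω0]; exact hβd _ (hσU a)
  intro u hu v hv
  obtain ⟨a, ha⟩ := (hωΩ _).mp (hsΩ u hu)
  obtain ⟨b, hb⟩ := (hωΩ _).mp (hsΩ v hv)
  rw [(diff u hu (σ a) (hσU a) (by rw [hσ, ha]) v hv).1,
    (diff v hv (σ b) (hσU b) (by rw [hσ, hb]) (σ a) (hσU a)).2, ← hBdef, hzero, hω0]

/-- An automorphism scaling the involutions by `μ ≠ 1` has no non-trivial fixed point. -/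
theorem eq_one_of_fixed {F : Type*} [Field F] {ω : F → P}
    (hω0 : ω 0 = 1) (hωinj : Function.Injective ω) (hωΩ : ∀ x : P, x * x = 1 ↔ ∃ a, ω a = x)
    {k : MulAut P} {μ : F} (hk : ∀ a, k (ω a) = ω (μ * a)) (hμ : μ ≠ 1) {x : P} (hx : k x = x) :
    x = 1 := by
  by_contra hx1
  obtain ⟨m, hm1, hm2⟩ := h.exists_involution_power hx1
  obtain ⟨a, ha⟩ := (hωΩ _).mp hm2
  have e : k (ω a) = ω a := by rw [ha, map_pow, hx]
  rw [hk] at e
  have ha0 : a ≠ 0 := fun e0 => hm1 (by rw [← ha, e0, hω0])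
  exact hμ ((mul_eq_right₀ ha0).mp (hωinj e))

end SCtx

end CfsgLib.SuzukiSolv
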