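import Mathlib
import Cfsg.Agent.Linalg.FieldAutBasis

/-!
Subgroups `H` of the multiplicative group of `GF(2^n)` of index dividing `n`: an identity between
products of two field automorphisms that holds on `H` holds everywhere.
-/

set_option autoImplicit false

namespace CfsgLib.SuzukiSolv

theorem add_three_lt_two_pow {k : ℕ} (hk : 5 ≤ k) : 4 * k + 4 < 2 ^ k := by
  induction k, hk using Nat.le_induction with
  | base => norm_num
  | succ k hk ih => rw [pow_succ]; omega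

theorem small_bound :
    ∀ (n : Fin 24) (d : Fin 24), (n : ℕ) % (d : ℕ) = 0 → (2 ^ (n : ℕ) - 1) % (d : ℕ) = 0 →
      1 < (d : ℕ) → (d : ℕ) ≤ n → (n : ℕ) = 6 ∨ (d : ℕ) < 2 ^ (((n : ℕ) + 3) / 4 - 1) := by
  decide +kernel

theorem index_bound {n d : ℕ} (hn : 0 < n) (hdn : d ∣ n) (hd : d ∣ 2 ^ n - 1) (h1 : 1 < d)
    (h6 : n ≠ 6) : d < 2 ^ ((n + 3) / 4 - 1) := by
  have hle := Nat.le_of_dvd hn hdn
  by_cases h : n < 24
  · exact (small_bound ⟨n, h⟩ ⟨d, by omega⟩ (Nat.mod_eq_zero_of_dvd hdn) (Nat.mod_eq_zero_of_dvd hd)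
      h1 hle).resolve_left h6
  · have := add_three_lt_two_pow (k := (n - 1) / 4) (by omega)
    rw [show (n + 3) / 4 - 1 = (n - 1) / 4 by omega]
    omega

theorem six_sq : ∀ a b c : Fin 6, (2 ^ (a : ℕ) + 2 ^ (b : ℕ)) % 21 = (2 ^ (c : ℕ) + 2 ^ (c : ℕ)) % 21 →
    (2 ^ (a : ℕ) + 2 ^ (b : ℕ)) % 63 = (2 ^ (c : ℕ) + 2 ^ (c : ℕ)) % 63 := by
  decide +kernel

theorem six_twist : ∀ r s t : Fin 6,
    (2 ^ 0 + 2 ^ (((r : ℕ) + s) % 6)) % 21 = (2 ^ (r : ℕ) + 2 ^ (t : ℕ)) % 21 →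
    (2 ^ 0 + 2 ^ (((r : ℕ) + s) % 6)) % 63 = (2 ^ (r : ℕ) + 2 ^ (t : ℕ)) % 63 ∨ (s : ℕ) = t := by
  decide +kernel

theorem two_pow_modEq {n M : ℕ} (hM : M ∣ 2 ^ n - 1) (x : ℕ) : 2 ^ x ≡ 2 ^ (x % n) [MOD M] := by
  have h1 : 2 ^ n ≡ 1 [MOD M] :=
    ((Nat.modEq_iff_dvd' Nat.one_le_two_pow).mpr hM).symm
  conv_lhs => rw [← Nat.mod_add_div x n, pow_add, pow_mul]
  simpa using (h1.pow (x / n)).mul_left (2 ^ (x % n))

theorem exists_rotation {n : ℕ} (hn : 0 < n) (a b c e : ℕ) :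
    ∃ r < n, ∀ x ∈ [a, b, c, e], (x + r) % n + (n + 3) / 4 ≤ n := by
  classical
  set g := (n + 3) / 4 with hg
  by_contra hcon
  push Not at hcon
  let bad : ℕ → Finset ℕ := fun x =>
    (Finset.Ico (n + 1 - g) n).image (fun t => (t + n - x % n) % n)
  have hsub : Finset.range n ⊆ bad a ∪ bad b ∪ bad c ∪ bad e := by
    intro r hr
    rw [Finset.mem_range] at hr
    obtain ⟨x, hx, hlt⟩ := hcon r hr
    have hxr : r ∈ bad x := by
      refine Finset.mem_image.mpr ⟨(x + r) % n, Finset.mem_Ico.mpr ⟨by omega, Nat.mod_lt _ hn⟩, ?_⟩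
      have h2 : x % n < n := Nat.mod_lt _ hn
      have e1 : (x + r) % n = (x % n + r) % n := by rw [Nat.mod_add_mod]
      rw [e1]
      by_cases h3 : x % n + r < n
      · rw [Nat.mod_eq_of_lt h3, show x % n + r + n - x % n = r + n by omega, Nat.add_mod_right,
          Nat.mod_eq_of_lt hr]
      · rw [Nat.mod_eq_sub_mod (show n ≤ x % n + r by omega),
          Nat.mod_eq_of_lt (show x % n + r - n < n by omega),
          show x % n + r - n + n - x % n = r by omega, Nat.mod_eq_of_lt hr]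
    simp only [List.mem_cons, List.not_mem_nil, or_false] at hx
    simp only [Finset.mem_union]
    rcases hx with rfl | rfl | rfl | rfl <;> simp [hxr]
  have hb : ∀ x, (bad x).card ≤ g - 1 := fun x => Finset.card_image_le.trans (by
    rw [Nat.card_Ico]; omega)
  have h1 := Finset.card_le_card hsub
  rw [Finset.card_range] at h1
  have h2 := Finset.card_union_le (bad a ∪ bad b ∪ bad c) (bad e)
  have h3 := Finset.card_union_le (bad a ∪ bad b) (bad c)
  have h4 := Finset.card_union_le (bad a) (bad b)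
  have := hb a
  have := hb b
  have := hb c
  have := hb e
  omega

/-- Two sums of two powers of two congruent modulo `(2^n - 1)/d`, `d ∣ n`, are congruent modulo `2^n - 1`. -/
theorem two_term_congr {n d M : ℕ} (hn : 0 < n) (hdn : d ∣ n) (hdM : d * M = 2 ^ n - 1)
    (h6 : n ≠ 6 ∨ d ≤ 1) {a b c e : ℕ} (h : 2 ^ a + 2 ^ b ≡ 2 ^ c + 2 ^ e [MOD M]) :
    2 ^ a + 2 ^ b ≡ 2 ^ c + 2 ^ e [MOD 2 ^ n - 1] := by
  have hMd : M ∣ 2 ^ n - 1 := hdM ▸ dvd_mul_left M d
  by_cases h1 : d ≤ 1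
  · have hd1 : d = 1 := le_antisymm h1 (Nat.pos_of_dvd_of_pos hdn hn)
    rw [← hdM, hd1, one_mul]
    exact h
  replace h6 : n ≠ 6 := h6.resolve_right h1
  have hb := index_bound hn hdn (hdM ▸ dvd_mul_right d M) (by omega) h6
  obtain ⟨r, hr, hrot⟩ := exists_rotation hn a b c e
  set g := (n + 3) / 4 with hg
  have hg1 : 1 ≤ g ∧ g ≤ n := by omega
  have hlt : ∀ x y, x + g ≤ n → y + g ≤ n → 2 ^ x + 2 ^ y < M := by
    intro x y hx hy
    have e1 : 2 ^ x ≤ 2 ^ (n - g) := Nat.pow_le_pow_right (by norm_num) (by omega)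
    have e2 : 2 ^ y ≤ 2 ^ (n - g) := Nat.pow_le_pow_right (by norm_num) (by omega)
    have e3 : 2 ^ n = 2 ^ (g - 1) * (2 ^ (n - g) * 2) := by
      rw [← pow_succ, ← pow_add]; congr 1; omega
    have e4 : 0 < 2 ^ (n - g) := pow_pos (by norm_num) _
    by_contra hcon
    have e5 : (d + 1) * (2 ^ (n - g) * 2) ≤ 2 ^ n := by
      rw [e3]; exact Nat.mul_le_mul_right _ hb
    have e6 : d * M ≤ d * (2 ^ (n - g) * 2) := Nat.mul_le_mul_left _ (by omega)
    rw [hdM] at e6
    rw [add_mul, one_mul] at e5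
    omega
  have hm : ∀ x, 2 ^ x * 2 ^ r ≡ 2 ^ ((x + r) % n) [MOD M] := fun x => by
    rw [← pow_add]; exact two_pow_modEq hMd _
  have hm' : ∀ x, 2 ^ x * 2 ^ r ≡ 2 ^ ((x + r) % n) [MOD 2 ^ n - 1] := fun x => by
    rw [← pow_add]; exact two_pow_modEq dvd_rfl _
  have hr2 := h.mul_right (2 ^ r)
  rw [add_mul, add_mul] at hr2
  have heq : 2 ^ ((a + r) % n) + 2 ^ ((b + r) % n) = 2 ^ ((c + r) % n) + 2 ^ ((e + r) % n) :=
    Nat.ModEq.eq_of_lt_of_lt (((hm a).add (hm b)).symm.trans (hr2.trans ((hm c).add (hm e))))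
      (hlt _ _ (hrot a (by simp)) (hrot b (by simp))) (hlt _ _ (hrot c (by simp)) (hrot e (by simp)))
  have hback : ∀ x y, 2 ^ x + 2 ^ y ≡ (2 ^ ((x + r) % n) + 2 ^ ((y + r) % n)) * 2 ^ (n - r)
      [MOD 2 ^ n - 1] := fun x y => by
    have e1 := (((hm' x).add (hm' y)).mul_right (2 ^ (n - r)))
    rw [← add_mul, mul_assoc, ← pow_add, show r + (n - r) = n by omega] at e1
    have e2 := (two_pow_modEq (n := n) (M := 2 ^ n - 1) dvd_rfl n).mul_left (2 ^ x + 2 ^ y)
    rw [Nat.mod_self, pow_zero, mul_one] at e2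
    exact e2.symm.trans e1
  exact (hback a b).trans (heq ▸ (hback c e).symm)

variable {F : Type*} [Field F]

/-- A subgroup on which some identities between products of two automorphisms can be tested. -/
structure GoodSub (H : Subgroup Fˣ) : Prop where
  sq : ∀ α β γ : F ≃+* F,
    (∀ μ ∈ H, α (μ : F) * β μ = γ μ * γ μ) → ∀ x : F, α x * β x = γ x * γ x
  twist : ∀ σ τ ρ : F ≃+* F, σ ≠ τ →
    (∀ μ ∈ H, (μ : F) * ρ (σ μ) = ρ μ * τ μ) → ∀ x : F, x * ρ (σ x) = ρ x * τ x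

variable [Fintype F] [CharP F 2]

theorem exists_card_ringAut :
    ∃ n : ℕ, 0 < n ∧ Nat.card (F ≃+* F) = n ∧ Fintype.card F = 2 ^ n ∧
      ∀ σ : F ≃+* F, ∃ i : ℕ, ∀ x : F, σ x = x ^ 2 ^ i := by
  letI : Algebra (ZMod 2) F := ZMod.algebra F 2
  have hcomm : ∀ (σ : F ≃+* F) (r : ZMod 2), σ (algebraMap (ZMod 2) F r) = algebraMap (ZMod 2) F r :=
    fun σ r => RingHom.congr_fun
      (RingHom.ext_zmod ((σ : F →+* F).comp (algebraMap (ZMod 2) F)) (algebraMap (ZMod 2) F)) r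
  let e : (F ≃+* F) ≃ (F ≃ₐ[ZMod 2] F) :=
    { toFun := fun σ => AlgEquiv.ofRingEquiv (f := σ) (hcomm σ)
      invFun := fun f => f.toRingEquiv
      left_inv := fun σ => by ext; rfl
      right_inv := fun f => by ext; rfl }
  refine ⟨Module.finrank (ZMod 2) F, Module.finrank_pos, ?_, ?_, fun σ => ?_⟩
  · rw [Nat.card_congr e, IsGalois.card_aut_eq_finrank]
  · rw [Module.card_eq_pow_finrank (K := ZMod 2) (V := F), ZMod.card]
  · obtain ⟨⟨i, hi⟩, hfr⟩ := (FiniteField.bijective_frobeniusAlgEquivOfAlgebraic_pow (ZMod 2) F).2 (e σ)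
    refine ⟨i, fun x => ?_⟩
    have h1 : e σ x = σ x := rfl
    rw [← h1, ← hfr]
    simp only [AlgEquiv.coe_pow, FiniteField.coe_frobeniusAlgEquivOfAlgebraic, pow_iterate,
      ZMod.card]

theorem goodSub_of_index {H : Subgroup Fˣ} (hH : H.index ∣ Nat.card (F ≃+* F)) : GoodSub H := by
  classical
  obtain ⟨n, hn, hAut, hF, hσ⟩ := exists_card_ringAut (F := F)
  rw [hAut] at hH
  obtain ⟨ζ, hζ⟩ := IsCyclic.exists_generator (α := Fˣ)
  have hcardU : Nat.card Fˣ = 2 ^ n - 1 := by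
    rw [Nat.card_units, Nat.card_eq_fintype_card, hF]
  have hord : orderOf ζ = 2 ^ n - 1 := by rw [orderOf_eq_card_of_forall_mem_zpowers hζ, hcardU]
  have hdM : H.index * Nat.card H = 2 ^ n - 1 := by rw [H.index_mul_card, hcardU]
  have hdown : ∀ A B : ℕ, (∀ μ ∈ H, (μ : F) ^ A = (μ : F) ^ B) → A ≡ B [MOD Nat.card H] := by
    intro A B h
    have h1 := h (ζ ^ H.index) (H.pow_index_mem ζ)
    rw [← Units.val_pow_eq_pow_val, ← Units.val_pow_eq_pow_val, Units.val_inj, ← pow_mul, ← pow_mul,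
      pow_eq_pow_iff_modEq, hord, ← hdM] at h1
    exact Nat.ModEq.mul_left_cancel' Subgroup.index_ne_zero_of_finite h1
  have hup : ∀ A B : ℕ, 0 < A → 0 < B → A ≡ B [MOD 2 ^ n - 1] → ∀ x : F, x ^ A = x ^ B := by
    intro A B hA hB h x
    by_cases hx : x = 0
    · simp [hx, zero_pow hA.ne', zero_pow hB.ne']
    have h3 : (Units.mk0 x hx) ^ A = (Units.mk0 x hx) ^ B := by
      rw [pow_eq_pow_iff_modEq]
      refine h.of_dvd ?_
      rw [← hcardU]
      exact orderOf_dvd_natCard _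
    simpa using congrArg Units.val h3
  have hsix : n = 6 → ∀ i : ℕ, ∀ x : F, x ^ 2 ^ i = x ^ 2 ^ (i % 6) := fun h6 i x =>
    hup _ _ (pow_pos (by norm_num) _) (pow_pos (by norm_num) _) (h6 ▸ two_pow_modEq dvd_rfl i) x
  have h21 : n = 6 → ¬ H.index ≤ 1 → Nat.card H = 21 := by
    intro h6 h1
    rw [h6] at hH hdM
    norm_num at hdM
    have hle := Nat.le_of_dvd (by norm_num) hH
    have hd : H.index ∣ 63 := hdM ▸ dvd_mul_right _ _
    have h3 : H.index = 3 := by
      interval_cases hd' : H.index <;> revert hH hd <;> decide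
    rw [h3] at hdM
    rw [Nat.card_eq_fintype_card]; omega
  constructor
  · intro α β γ hid x
    obtain ⟨a, ha⟩ := hσ α
    obtain ⟨b, hb⟩ := hσ β
    obtain ⟨c, hc⟩ := hσ γ
    simp only [ha, hb, hc, ← pow_add] at hid ⊢
    refine hup _ _ (by positivity) (by positivity) ?_ x
    have h1 := hdown _ _ hid
    by_cases hgen : n ≠ 6 ∨ H.index ≤ 1
    · exact two_term_congr hn hH hdM hgen h1
    push Not at hgen
    obtain ⟨h6, hi⟩ := hgen
    rw [h21 h6 (by omega)] at h1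
    subst h6
    have hm : ∀ i, 2 ^ i ≡ 2 ^ (i % 6) [MOD 63] := fun i => two_pow_modEq (n := 6) (by norm_num) i
    have hk : ∀ i, 2 ^ i ≡ 2 ^ (i % 6) [MOD 21] := fun i => (hm i).of_dvd (by norm_num)
    have := six_sq ⟨a % 6, Nat.mod_lt _ hn⟩ ⟨b % 6, Nat.mod_lt _ hn⟩ ⟨c % 6, Nat.mod_lt _ hn⟩
      (((hk a).add (hk b)).symm.trans (h1.trans ((hk c).add (hk c))))
    exact ((hm a).add (hm b)).trans ((show Nat.ModEq 63 _ _ from this).trans ((hm c).add (hm c)).symm)
  · intro σ τ ρ hne hid x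
    obtain ⟨s, hs⟩ := hσ σ
    obtain ⟨t, ht⟩ := hσ τ
    obtain ⟨r, hr⟩ := hσ ρ
    have hrs : ∀ y : F, y * ρ (σ y) = y ^ (2 ^ 0 + 2 ^ (r + s)) := fun y => by
      rw [hr, hs, ← pow_mul, ← pow_add, pow_zero, add_comm r s, pow_add (y) 1, pow_one]
    have hrt : ∀ y : F, ρ y * τ y = y ^ (2 ^ r + 2 ^ t) := fun y => by rw [hr, ht, ← pow_add]
    simp only [hrs, hrt] at hid ⊢
    refine hup _ _ (by positivity) (by positivity) ?_ x
    have h1 := hdown _ _ hid
    by_cases hgen : n ≠ 6 ∨ H.index ≤ 1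
    · exact two_term_congr hn hH hdM hgen h1
    push Not at hgen
    obtain ⟨h6, hi⟩ := hgen
    rw [h21 h6 (by omega)] at h1
    subst h6
    have hm : ∀ i, 2 ^ i ≡ 2 ^ (i % 6) [MOD 63] := fun i => two_pow_modEq (n := 6) (by norm_num) i
    have hk : ∀ i, 2 ^ i ≡ 2 ^ (i % 6) [MOD 21] := fun i => (hm i).of_dvd (by norm_num)
    have e6 : (r % 6 + s % 6) % 6 = (r + s) % 6 := (Nat.add_mod _ _ _).symm
    rcases six_twist ⟨r % 6, Nat.mod_lt _ hn⟩ ⟨s % 6, Nat.mod_lt _ hn⟩ ⟨t % 6, Nat.mod_lt _ hn⟩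
      (by
        simp only [e6]
        exact (((hk 0).add (hk (r + s))).symm.trans (h1.trans ((hk r).add (hk t))))) with this | this
    · simp only [e6] at this
      exact ((hm 0).add (hm (r + s))).trans ((show Nat.ModEq 63 _ _ from this).trans ((hm r).add (hm t)).symm)
    · refine absurd (RingEquiv.ext fun y => ?_) hne
      rw [hs, ht, hsix rfl s, hsix rfl t, show s % 6 = t % 6 from this]

omit [Fintype F] in
/-- Products of two automorphisms agree only trivially. -/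
theorem pair_add_eq_zero {α β γ δ : F ≃+* F} (h : ∀ x : F, α x * β x = γ x * δ x) (x : F) :
    α x + β x + γ x + δ x = 0 := by
  have e' := h (x + 1)
  simp only [map_add, map_one] at e'
  have e2 := h x
  have h2 : (2 : F) = 0 := CharTwo.two_eq_zero
  linear_combination e' - e2 + (γ x + δ x) * h2

omit [Fintype F] [CharP F 2] in
/-- An automorphism fixing a good subgroup pointwise is trivial. -/
theorem GoodSub.eq_refl {H : Subgroup Fˣ} (hH : GoodSub H) {σ : F ≃+* F}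
    (h : ∀ μ ∈ H, σ (μ : F) = μ) : σ = RingEquiv.refl F := by
  refine RingEquiv.ext fun x => ?_
  by_cases hx : x = 0
  · simp [hx]
  exact mul_right_cancel₀ hx (hH.sq σ (RingEquiv.refl F) (RingEquiv.refl F)
    (fun μ hμ => by simp [h μ hμ]) x)

/-- A good subgroup spans the field additively. -/
theorem GoodSub.span_eq_top {H : Subgroup Fˣ} (hH : GoodSub H) :
    AddSubgroup.closure {x : F | ∃ μ ∈ H, ((μ : Fˣ) : F) = x} = ⊤ := by
  classical
  set A := AddSubgroup.closure {x : F | ∃ μ ∈ H, ((μ : Fˣ) : F) = x} with hA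
  have hone : (1 : F) ∈ A := AddSubgroup.subset_closure ⟨1, H.one_mem, rfl⟩
  have hmul : ∀ a ∈ A, ∀ b ∈ A, a * b ∈ A := by
    intro a ha b hb
    induction ha using AddSubgroup.closure_induction with
    | mem a ha =>
      obtain ⟨μ, hμ, rfl⟩ := ha
      induction hb using AddSubgroup.closure_induction with
      | mem b hb =>
        obtain ⟨ν, hν, rfl⟩ := hb
        exact AddSubgroup.subset_closure ⟨μ * ν, H.mul_mem hμ hν, by simp⟩
      | zero => rw [mul_zero]; exact A.zero_mem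
      | add u v _ _ hu hv => rw [mul_add]; exact A.add_mem hu hv
      | neg u _ hu => rw [mul_neg]; exact A.neg_mem hu
    | zero => rw [zero_mul]; exact A.zero_mem
    | add u v _ _ hu hv => rw [add_mul]; exact A.add_mem hu hv
    | neg u _ hu => rw [neg_mul]; exact A.neg_mem hu
  let R : Subring F :=
    { carrier := A
      one_mem' := hone
      mul_mem' := fun {a b} ha hb => hmul a ha b hb
      zero_mem' := A.zero_mem
      add_mem' := fun {a b} ha hb => A.add_mem ha hb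
      neg_mem' := fun {a} ha => A.neg_mem ha }
  have hpow : ∀ a ∈ R, ∀ k : ℕ, a ^ k ∈ R := fun a ha k => pow_mem ha k
  let K₀ : Subfield F :=
    { R with
      inv_mem' := fun a ha => by
        by_cases h0 : a = 0
        · rw [h0, inv_zero]; exact R.zero_mem
        have h1 : 1 < Fintype.card F := Fintype.one_lt_card
        have : a⁻¹ = a ^ (Fintype.card F - 2) := by
          refine inv_eq_of_mul_eq_one_right ?_
          rw [← pow_succ', show Fintype.card F - 2 + 1 = Fintype.card F - 1 by omega,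
            FiniteField.pow_card_sub_one_eq_one a h0]
        rw [this]; exact hpow a ha _ }
  rw [eq_top_iff]
  intro x _
  by_contra hx
  letI : Fintype K₀ := Fintype.ofFinite _
  have hσ : FiniteField.frobeniusAlgEquivOfAlgebraic K₀ F = 1 := by
    refine AlgEquiv.ext fun y => ?_
    have := hH.eq_refl (σ := (FiniteField.frobeniusAlgEquivOfAlgebraic K₀ F).toRingEquiv)
      (fun μ hμ => (FiniteField.frobeniusAlgEquivOfAlgebraic K₀ F).commutes
        ⟨μ, AddSubgroup.subset_closure ⟨μ, hμ, rfl⟩⟩)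
    exact RingEquiv.congr_fun this y
  have h1 : orderOf (FiniteField.frobeniusAlgEquivOfAlgebraic K₀ F) = 1 := orderOf_eq_one_iff.2 hσ
  rw [FiniteField.orderOf_frobeniusAlgEquivOfAlgebraic] at h1
  obtain ⟨y, hy⟩ : x ∈ Set.range (algebraMap K₀ F) := by
    have hxb : x ∈ (⊥ : Subalgebra K₀ F) := by
      rw [Subalgebra.bot_eq_top_of_finrank_eq_one h1]; exact Algebra.mem_top
    exact Algebra.mem_bot.mp hxb
  exact hx (hy ▸ y.2)

end CfsgLib.SuzukiSolv
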