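import Cfsg.Agent.SuzukiSolv.Basic
import Cfsg.Agent.SuzukiTwo.Layer

/-!
Abelian invariant normal subgroups and layers, for a solvable transitive group of automorphisms.
-/

set_option autoImplicit false

namespace CfsgLib.SuzukiSolv

open CfsgLib.SuzukiTwo (Inv Abl layer mem_layer layer_normal layer_inv le_layer exists_mem_layer pow_sq)

variable {P : Type*} [Group P]

theorem abl_center {K : Subgroup (MulAut P)} (h : SCtx P K) : Abl K (Subgroup.center P) where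
  normal := inferInstance
  inv k _ x hx := Subgroup.mem_center_iff.mpr fun g => by
    obtain ⟨g', rfl⟩ := k.surjective g
    rw [← map_mul, ← map_mul, Subgroup.mem_center_iff.mp hx g']
  comm a ha b _ := (Subgroup.mem_center_iff.mp ha b).symm
  omega _ hx := Subgroup.mem_center_iff.mpr fun g => h.central hx g


namespace SCtx

variable {K : Subgroup (MulAut P)} (h : SCtx P K)
include h

theorem exists_exponent {A : Subgroup P} (hA : Abl K A) :
    ∃ f, 1 ≤ f ∧ (∀ a ∈ A, a ^ 2 ^ f = 1) ∧ ∃ a ∈ A, a ^ 2 ^ (f - 1) ≠ 1 := by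
  classical
  haveI := h.fin
  haveI : Fact (Nat.Prime 2) := ⟨Nat.prime_two⟩
  have hex : ∃ m, ∀ a ∈ A, a ^ 2 ^ m = 1 := by
    obtain ⟨n, hn⟩ := IsPGroup.iff_card.1 h.pgroup
    exact ⟨n, fun a _ => by rw [← hn, pow_card_eq_one']⟩
  obtain ⟨x, y, -, hx1, hx, -, -⟩ := h.two_involutions
  have h0 : Nat.find hex ≠ 0 := fun e => hx1 (by
    have := Nat.find_spec hex x (hA.omega x hx)
    rw [e] at this
    simpa using this)
  have h1 := Nat.find_min hex (show Nat.find hex - 1 < Nat.find hex by omega)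
  push_neg at h1
  exact ⟨_, by omega, Nat.find_spec hex, h1⟩

/-- An abelian invariant subgroup with all involutions is homocyclic. -/
theorem root {A : Subgroup P} (hA : Abl K A) {f : ℕ} (hf : ∀ a ∈ A, a ^ 2 ^ f = 1)
    (hf' : ∃ a ∈ A, a ^ 2 ^ (f - 1) ≠ 1) :
    ∀ j ≤ f, ∀ a ∈ A, a ^ 2 ^ j = 1 → ∃ b ∈ A, b ^ 2 ^ (f - j) = a := by
  intro j
  induction j with
  | zero =>
    intro _ a _ ha
    exact ⟨1, A.one_mem, by rw [one_pow]; simpa using ha.symm⟩
  | succ j ih =>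
    intro hj a haA ha
    have shrink : ∀ c ∈ A, c ^ 2 ^ j = 1 → ∃ b ∈ A, b ^ 2 ^ (f - (j + 1)) = c := by
      intro c hcA hc
      obtain ⟨b, hbA, hb⟩ := ih (by omega) c hcA hc
      refine ⟨b * b, A.mul_mem hbA hbA, ?_⟩
      rw [pow_sq, show f - (j + 1) + 1 = f - j by omega, hb]
    by_cases h1 : a ^ 2 ^ j = 1
    · exact shrink a haA h1
    obtain ⟨a0, ha0, ha01⟩ := hf'
    have ha02 : a0 ^ 2 ^ (f - 1) * a0 ^ 2 ^ (f - 1) = 1 := by
      rw [← pow_add, ← two_mul, ← pow_succ', show f - 1 + 1 = f by omega, hf a0 ha0]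
    obtain ⟨k, hk, hka⟩ := h.trans _ (a ^ 2 ^ j) ha01 ha02 h1
      (by rw [← pow_add, ← two_mul, ← pow_succ', ha])
    rw [map_pow] at hka
    set b0 := k a0
    have hb0 : b0 ∈ A := hA.inv k hk a0 ha0
    have hpow : (b0 ^ 2 ^ (f - (j + 1))) ^ 2 ^ j = a ^ 2 ^ j := by
      rw [← pow_mul, ← pow_add, show f - (j + 1) + j = f - 1 by omega, hka]
    have hb1 : b0 ^ 2 ^ (f - (j + 1)) ∈ A := A.pow_mem hb0 _
    obtain ⟨b, hbA, hb⟩ := shrink (a * (b0 ^ 2 ^ (f - (j + 1)))⁻¹) (A.mul_mem haA (A.inv_mem hb1))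
      (by
        have hc : Commute a (b0 ^ 2 ^ (f - (j + 1)))⁻¹ := hA.comm _ haA _ (A.inv_mem hb1)
        rw [hc.mul_pow, inv_pow, hpow, mul_inv_cancel])
    refine ⟨b * b0, A.mul_mem hbA hb0, ?_⟩
    rw [(show Commute b b0 from hA.comm _ hbA _ hb0).mul_pow, hb, inv_mul_cancel_right]

/-- The layer above `A` inside its centralizer is abelian, and of bigger exponent. -/
theorem layer_comm {A C : Subgroup P} (hA : Abl K A) [A.Normal] (hCN : C.Normal) (hC : Inv K C)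
    (hAC : A ≤ C) (hcent : ∀ c ∈ C, ∀ a ∈ A, c * a = a * c) (hne : ¬ C ≤ A) {f : ℕ} (h2 : 2 ≤ f)
    (hf : ∀ a ∈ A, a ^ 2 ^ f = 1) (hf' : ∃ a ∈ A, a ^ 2 ^ (f - 1) ≠ 1) :
    Abl K (layer A C) ∧ (∃ x ∈ layer A C, x ∉ A) ∧ ∃ x ∈ layer A C, x ^ 2 ^ f ≠ 1 := by
  haveI := h.fin
  obtain ⟨x0, hx0, hx0A⟩ := exists_mem_layer h.pgroup hCN hne
  have hs : ∀ x ∈ layer A C, x * x ∈ A := fun x hx => (mem_layer.mp hx).2.1
  have hc : ∀ x ∈ layer A C, ∀ a ∈ A, Commute x a := fun x hx => hcent x (mem_layer.mp hx).1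
  have hin : ∀ x ∈ layer A C, (x * x) ^ 2 ^ (f - 1) = 1 → x ∈ A := by
    intro x hx e
    obtain ⟨b, hb, hbx⟩ := h.root hA hf hf' (f - 1) (by omega) _ (hs x hx) e
    rw [show f - (f - 1) = 1 by omega, pow_one] at hbx
    have h1 : x * b⁻¹ * (x * b⁻¹) = 1 := by
      have hcom := (hc x hx b hb).inv_right
      rw [← pow_two, hcom.mul_pow, inv_pow, hbx, pow_two, mul_inv_cancel]
    simpa using A.mul_mem (hA.omega _ h1) hb
  have hcA : ∀ x ∈ layer A C, ∀ y : P, y * x * y⁻¹ * x⁻¹ ∈ A := fun x hx => (mem_layer.mp hx).2.2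
  have hcsq : ∀ x ∈ layer A C, ∀ y ∈ layer A C,
      y * x * y⁻¹ * x⁻¹ * (y * x * y⁻¹ * x⁻¹) = 1 := by
    intro x hx y hy
    have e1 : y * (x * x) * y⁻¹ = x * x := by rw [(hc y hy _ (hs x hx)).eq, mul_inv_cancel_right]
    have e2 : x * (y * x * y⁻¹ * x⁻¹) * x⁻¹ = y * x * y⁻¹ * x⁻¹ := by
      rw [(hc x hx _ (hcA x hx y)).eq, mul_inv_cancel_right]
    calc y * x * y⁻¹ * x⁻¹ * (y * x * y⁻¹ * x⁻¹)
        = y * x * y⁻¹ * x⁻¹ * (x * (y * x * y⁻¹ * x⁻¹) * x⁻¹) := by rw [e2]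
      _ = y * (x * x) * y⁻¹ * (x * x)⁻¹ := by group
      _ = 1 := by rw [e1, mul_inv_cancel]
  have heq : ∀ x ∈ layer A C, ∀ y ∈ layer A C, y * x * y⁻¹ * x⁻¹ = 1 := by
    refine fun x hx y hy => h.pairing_eq_one (layer A C) (layer_inv hA.inv hC)
      (fun x => (x * x) ^ 2 ^ (f - 1)) (fun x y => y * x * y⁻¹ * x⁻¹)
      ?_ ?_ ?_ ⟨x0, hx0, fun e => hx0A (hin x0 hx0 e)⟩ hcsq ?_ ?_ ?_ ?_ ?_ x hx y hy
    · intro u hu
      rw [← pow_add, ← two_mul, ← pow_succ', show f - 1 + 1 = f by omega, hf _ (hs u hu)]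
    · intro u hu v hv
      set c := v * u * v⁻¹ * u⁻¹
      have hcc : ∀ g : P, Commute c g := fun g => (h.central (hcsq u hu v hv) g).symm
      have e : u * v * (u * v) = c * ((u * u) * (v * v)) := by
        calc u * v * (u * v) = u * c * (u * (v * v)) := by simp only [c]; group
          _ = c * u * (u * (v * v)) := by rw [(hcc u).eq]
          _ = _ := by group
      show (u * v * (u * v)) ^ 2 ^ (f - 1) = (u * u) ^ 2 ^ (f - 1) * (v * v) ^ 2 ^ (f - 1)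
      rw [e, (hcc _).mul_pow, (show Commute (u * u) (v * v) from hA.comm _ (hs u hu) _ (hs v hv)).mul_pow]
      have : c ^ 2 ^ (f - 1) = 1 := by
        obtain ⟨m, hm⟩ : 2 ∣ 2 ^ (f - 1) := dvd_pow_self 2 (by omega)
        rw [hm, pow_mul, pow_two, hcsq u hu v hv, one_pow]
      rw [this, one_mul]
    · intro k _ u _; simp
    · intro u hu v hv w hw
      have e : w * (u * v) * w⁻¹ * (u * v)⁻¹ =
          w * u * w⁻¹ * u⁻¹ * (u * (w * v * w⁻¹ * v⁻¹) * u⁻¹) := by group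
      rw [e, h.central (hcsq v hv w hw) u, mul_inv_cancel_right]
    · intro u hu v hv w hw
      have e : v * w * u * (v * w)⁻¹ * u⁻¹ =
          v * (w * u * w⁻¹ * u⁻¹) * v⁻¹ * (v * u * v⁻¹ * u⁻¹) := by group
      rw [e, h.central (hcsq u hu w hw) v, mul_inv_cancel_right, ← h.central (hcsq u hu w hw)]
    · intro k _ u _ v _; simp
    · intro u hu e v hv
      constructor
      · rw [(hc v hv u (hin u hu e)).eq, mul_inv_cancel_right, mul_inv_cancel]
      · rw [← (hc v hv u (hin u hu e)).eq, mul_inv_cancel_right, mul_inv_cancel]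
    · intro u _; group
  refine ⟨⟨layer_normal hCN, layer_inv hA.inv hC, fun a ha b hb => ?_,
    fun x hx => le_layer hAC (hA.omega x hx)⟩, ⟨x0, hx0, hx0A⟩, x0, hx0, fun e => hx0A (hin x0 hx0 ?_)⟩
  · exact (mul_inv_eq_iff_eq_mul.mp (mul_inv_eq_one.mp (heq a ha b hb))).symm
  · rw [pow_sq, show f - 1 + 1 = f by omega, e]

end SCtx

end CfsgLib.SuzukiSolv
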