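import Cfsg.Agent.SuzukiSolv.GoodSub
import Cfsg.Agent.SuzukiTwo.EndoWeights

/-!
Endomorphisms of a finite field invariant under a good subgroup of multiplications: components,
the pairing lemma and the quadratic map lemma.
-/

set_option autoImplicit false

namespace CfsgLib.SuzukiSolv

open CfsgLib.SuzukiTwo

variable {F : Type*} [Field F] [Fintype F] [CharP F 2] [Fintype (F ≃+* F)]

open Classical in
theorem coeff_autSingle {L : (F →+ F) →+ ((F ≃+* F) → F)}
    (h2 : ∀ (f : F →+ F) (c : (F ≃+* F) → F), f = ∑ σ, autSingle σ (c σ) → L f = c)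
    (τ : F ≃+* F) (d : F) (π : F ≃+* F) : L (autSingle τ d) π = if π = τ then d else 0 := by
  classical
  exact congrFun (h2 (autSingle τ d) (fun π => if π = τ then d else 0) (by
    rw [Finset.sum_eq_single τ (fun π _ hπ => by rw [if_neg hπ, autSingle_zero])
      (fun hn => absurd (Finset.mem_univ τ) hn), if_pos rfl])) π

omit [Fintype (F ≃+* F)] in
/-- An alternating biadditive map equivariant under a good subgroup is zero. -/
theorem pairing_eq_zero_of_good {H : Subgroup Fˣ} (hH : GoodSub H) (B : F → F → F)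
    (hl : ∀ a b c, B (a + b) c = B a c + B b c) (hr : ∀ a b c, B a (b + c) = B a b + B a c)
    (hs : ∀ μ ∈ H, ∀ a b : F, B ((μ : Fˣ) * a) (μ * b) = μ * B a b) (hd : ∀ a, B a a = 0) :
    ∀ a b : F, B a b = 0 := by
  classical
  haveI := FieldAutBasis.finite_ringAut (F := F)
  letI : Fintype (F ≃+* F) := Fintype.ofFinite _
  obtain ⟨L, h1, h2⟩ := exists_autCoeff (F := F)
  let f : F → F →+ F := fun a => AddMonoidHom.mk' (B a) (hr a)
  have hfadd : ∀ a b, f (a + b) = f a + f b := fun a b => AddMonoidHom.ext (hl a b)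
  let γ : F ≃+* F := (frobeniusEquiv F 2).symm
  have hγ : ∀ x, γ x * γ x = x := fun x => by
    have := (frobeniusEquiv F 2).apply_symm_apply x
    rwa [frobeniusEquiv_apply, frobenius_def, pow_two] at this
  let g : (F ≃+* F) → F →+ F := fun σ => AddMonoidHom.mk' (fun a => L (f a) σ) fun a b => by
    show L (f (a + b)) σ = L (f a) σ + L (f b) σ
    rw [hfadd, map_add, Pi.add_apply]
  have hg : ∀ μ ∈ H, ∀ σ a, g σ ((μ : Fˣ) * a) = autWeight σ (μ : F) * g σ a := by
    intro μ hμ σ a
    show L (f ((μ : F) * a)) σ = _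
    rw [show f ((μ : F) * a) = scaleConj (μ : F) (f a) from AddMonoidHom.ext fun x => ?_,
      autCoeff_scaleConj h1 h2]
    · rfl
    · show B ((μ : F) * a) x = (μ : F) * B a ((μ : F)⁻¹ * x)
      rw [← hs μ hμ, mul_inv_cancel_left₀ (Units.ne_zero μ)]
  have hzero : ∀ σ τ, L (g σ) τ ≠ 0 → σ = γ ∧ τ = γ := by
    intro σ τ hne
    have hid : ∀ μ ∈ H, τ ((μ : Fˣ) : F) * σ μ = γ μ * γ μ := by
      intro μ hμ
      have e : (g σ).comp (AddMonoidHom.mulLeft (μ : F)) =
          (AddMonoidHom.mulLeft (autWeight σ (μ : F))).comp (g σ) :=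
        AddMonoidHom.ext fun a => hg μ hμ σ a
      have e1 : L ((g σ).comp (AddMonoidHom.mulLeft (μ : F))) = fun π => L (g σ) π * π (μ : F) :=
        h2 _ _ (AddMonoidHom.ext fun a => by
          conv_lhs => rw [h1 (g σ)]
          simp only [AddMonoidHom.comp_apply, AddMonoidHom.finsetSum_apply, autSingle_apply,
            AddMonoidHom.coe_mulLeft, map_mul, mul_assoc])
      have e2 : L ((AddMonoidHom.mulLeft (autWeight σ (μ : F))).comp (g σ)) =
          fun π => autWeight σ (μ : F) * L (g σ) π :=
        h2 _ _ (AddMonoidHom.ext fun a => by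
          conv_lhs => rw [h1 (g σ)]
          simp only [AddMonoidHom.comp_apply, AddMonoidHom.finsetSum_apply, autSingle_apply,
            AddMonoidHom.coe_mulLeft, Finset.mul_sum, mul_assoc])
      have e3 : L (g σ) τ * τ (μ : F) = autWeight σ (μ : F) * L (g σ) τ := by
        have := congrFun (congrArg L e) τ
        rwa [congrFun e1 τ, congrFun e2 τ] at this
      have e4 : τ (μ : F) = autWeight σ (μ : F) := mul_left_cancel₀ hne (by rw [e3, mul_comm])
      rw [hγ, e4, autWeight, mul_assoc, inv_mul_cancel₀ (by simp), mul_one]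
    have hall := hH.sq τ σ γ hid
    have hστ : σ = τ := RingEquiv.ext fun x => by
      have e := pair_add_eq_zero (α := τ) (β := σ) (γ := γ) (δ := γ) hall x
      rw [add_assoc, CharTwo.add_self_eq_zero, add_zero] at e
      exact (CharTwo.add_eq_zero.mp e).symm
    refine ⟨?_, ?_⟩ <;> refine RingEquiv.ext fun x => ?_
    · have h' := hall x
      rw [← hστ] at h'
      exact CharTwo.add_eq_zero.mp (mul_self_eq_zero.mp (by
        rw [CharTwo.add_mul_self, h', CharTwo.add_self_eq_zero]))
    · have h' := hall x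
      rw [hστ] at h'
      exact CharTwo.add_eq_zero.mp (mul_self_eq_zero.mp (by
        rw [CharTwo.add_mul_self, h', CharTwo.add_self_eq_zero]))
  have hB : ∀ a b, B a b = L (g γ) γ * γ a * γ b := by
    intro a b
    have hga : ∀ σ, g σ a = if σ = γ then L (g γ) γ * γ a else 0 := by
      intro σ
      conv_lhs => rw [h1 (g σ), AddMonoidHom.finsetSum_apply]
      split_ifs with hσ
      · subst hσ
        rw [Finset.sum_eq_single γ]
        · rfl
        · intro π _ hπ
          rw [autSingle_apply]
          have : L (g γ) π = 0 := by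
            by_contra hne
            exact hπ (hzero _ _ hne).2
          rw [this, zero_mul]
        · exact fun hn => absurd (Finset.mem_univ γ) hn
      · refine Finset.sum_eq_zero fun π _ => ?_
        have : L (g σ) π = 0 := by
          by_contra hne
          exact hσ (hzero _ _ hne).1
        rw [autSingle_apply, this, zero_mul]
    show f a b = _
    rw [h1 (f a), AddMonoidHom.finsetSum_apply, Finset.sum_eq_single γ]
    · rw [autSingle_apply, show L (f a) γ = g γ a from rfl, hga γ, if_pos rfl]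
    · intro π _ hπ
      rw [autSingle_apply, show L (f a) π = g π a from rfl, hga π, if_neg hπ, zero_mul]
    · exact fun hn => absurd (Finset.mem_univ γ) hn
  have hc : L (g γ) γ = 0 := by
    have := hd 1
    rwa [hB, map_one, mul_one, mul_one] at this
  intro a b
  rw [hB, hc, zero_mul, zero_mul]

omit [Fintype F] [CharP F 2] [Fintype (F ≃+* F)] in
theorem exists_weight_inv {H : Subgroup Fˣ} {σ : F ≃+* F} (hHσ : ∀ μ ∈ H, ∃ ν ∈ H, ((ν : Fˣ) : F) = σ μ)
    (μ : Fˣ) (hμ : μ ∈ H) : ∃ ν ∈ H, ((ν : Fˣ) : F) = autWeight σ (μ : F) := by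
  obtain ⟨ν, hν, e⟩ := hHσ μ hμ
  exact ⟨μ * ν⁻¹, H.mul_mem hμ (H.inv_mem hν), by simp [autWeight, e]⟩

omit [Fintype (F ≃+* F)] in
/-- Automorphisms preserve subgroups of the multiplicative group. -/
theorem aut_mem {H : Subgroup Fˣ} (σ : F ≃+* F) {μ : Fˣ} (hμ : μ ∈ H) :
    ∃ ν ∈ H, ((ν : Fˣ) : F) = σ μ := by
  obtain ⟨n, -, -, -, hσ⟩ := exists_card_ringAut (F := F)
  obtain ⟨i, hi⟩ := hσ σ
  exact ⟨μ ^ 2 ^ i, H.pow_mem hμ _, by rw [hi]; simp⟩

/-- The weights on `H` of a component. -/
theorem weight_bij {H : Subgroup Fˣ} {σ : F ≃+* F}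
    (hfix : ∀ μ ∈ H, σ ((μ : Fˣ) : F) = μ → μ = 1) :
    (∀ μ ∈ H, ∀ ν ∈ H, autWeight σ ((μ : Fˣ) : F) = autWeight σ ν → μ = ν) ∧
    ∀ ν ∈ H, ∃ μ ∈ H, autWeight σ ((μ : Fˣ) : F) = ν := by
  have hinj : ∀ μ ∈ H, ∀ ν ∈ H, autWeight σ ((μ : Fˣ) : F) = autWeight σ ν → μ = ν := by
    intro μ hμ ν hν e
    have hσν : σ (ν : F) ≠ 0 := by simp
    have hσμ : σ (μ : F) ≠ 0 := by simp
    have := hfix _ (H.mul_mem hμ (H.inv_mem hν)) (by
      simp only [autWeight] at e
      simp only [Units.val_mul, Units.val_inv_eq_inv_val, map_mul, map_inv₀]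
      field_simp at e ⊢
      linear_combination -e)
    exact mul_inv_eq_one.mp this
  refine ⟨hinj, fun ν hν => ?_⟩
  choose w hwH hw using fun μ : H => exists_weight_inv (fun κ hκ => aut_mem σ hκ) μ μ.2
  let W : H → H := fun μ => ⟨w μ, hwH μ⟩
  have hW : Function.Injective W := fun a b e => Subtype.ext (hinj _ a.2 _ b.2 (by
    rw [← hw a, ← hw b, show w a = w b from congrArg Subtype.val e]))
  obtain ⟨μ, hμ⟩ := Finite.injective_iff_surjective.mp hW ⟨ν, hν⟩
  exact ⟨μ, μ.2, by rw [← hw μ, show w μ = ν from congrArg Subtype.val hμ]⟩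

/-- An invariant space of endomorphisms on which a good subgroup acts freely contains the components
of its elements. -/
theorem autSingle_mem_of_good {H : Subgroup Fˣ} (hH : GoodSub H) (hH1 : H ≠ ⊥)
    (E : AddSubgroup (F →+ F)) (hE : ∀ μ ∈ H, ∀ T ∈ E, scaleConj ((μ : Fˣ) : F) T ∈ E)
    (hfree : ∀ μ ∈ H, ∀ T ∈ E, scaleConj ((μ : Fˣ) : F) T = T → T = 0 ∨ μ = 1)
    {L : (F →+ F) →+ ((F ≃+* F) → F)} (h1 : ∀ f, f = ∑ σ, autSingle σ (L f σ))
    (h2 : ∀ (f : F →+ F) (c : (F ≃+* F) → F), f = ∑ σ, autSingle σ (c σ) → L f = c) :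
    (∀ T ∈ E, ∀ σ, autSingle σ (L T σ) ∈ E) ∧
      ∀ T ∈ E, ∀ σ, L T σ ≠ 0 → σ ≠ RingEquiv.refl F ∧ ∀ x, autSingle σ x ∈ E := by
  classical
  haveI : Finite (F →+ F) := DFunLike.finite _
  have hfix : ∀ T ∈ E, ∀ σ, L T σ ≠ 0 → ∀ μ ∈ H, σ ((μ : Fˣ) : F) = μ → μ = 1 := by
    intro T hT σ hTσ μ hμH hμ
    by_contra hcon
    let Φ : E → E := fun U => ⟨scaleConj (μ : F) U - U, E.sub_mem (hE μ hμH _ U.2) U.2⟩
    have hΦ : Function.Injective Φ := by
      intro U V hUV
      have e : scaleConj (μ : F) (U : F →+ F) - U = scaleConj (μ : F) (V : F →+ F) - V :=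
        congrArg Subtype.val hUV
      rw [sub_eq_sub_iff_sub_eq_sub] at e
      rcases hfree μ hμH ((U : F →+ F) - V) (E.sub_mem U.2 V.2) (AddMonoidHom.ext fun z => by
        have e' := DFunLike.congr_fun e z
        simp only [AddMonoidHom.sub_apply, scaleConj_apply] at e' ⊢
        rw [mul_sub]; exact e') with h0 | h0
      · exact Subtype.ext (sub_eq_zero.mp h0)
      · exact absurd h0 hcon
    obtain ⟨U, hU⟩ := Finite.injective_iff_surjective.mp hΦ ⟨T, hT⟩
    apply hTσ
    have e : scaleConj (μ : F) (U : F →+ F) - U = T := congrArg Subtype.val hU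
    rw [← e, map_sub, Pi.sub_apply, autCoeff_scaleConj h1 h2, autWeight, hμ,
      mul_inv_cancel₀ (Units.ne_zero μ), one_mul, sub_self]
  have hid : ∀ T ∈ E, ∀ σ, L T σ ≠ 0 → σ ≠ RingEquiv.refl F := by
    intro T hT σ hTσ hσ
    obtain ⟨μ, hμ, hμ1⟩ := (H.bot_or_exists_ne_one).resolve_left hH1
    exact hμ1 (hfix T hT σ hTσ μ hμ (by rw [hσ]; rfl))
  have hwt : ∀ (μ : Fˣ), μ ∈ H → ∀ (π : F ≃+* F) (d : F), autSingle π d ∈ E →
      autSingle π (autWeight π (μ : F) * d) ∈ E := by
    intro μ hμ π d hd
    rw [← scaleConj_autSingle]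
    exact hE μ hμ _ hd
  have hall : ∀ σ d, autSingle σ d ∈ E → d ≠ 0 → (∀ μ ∈ H, σ ((μ : Fˣ) : F) = μ → μ = 1) →
      ∀ x, autSingle σ x ∈ E := by
    intro σ d hd hd0 hf x
    let A : AddSubgroup F :=
      { carrier := {y | autSingle σ (y * d) ∈ E}
        zero_mem' := by
          show autSingle σ (0 * d) ∈ E
          rw [zero_mul, autSingle_zero]; exact E.zero_mem
        add_mem' := fun {a b} ha hb => by
          show autSingle σ ((a + b) * d) ∈ E
          rw [add_mul, autSingle_add]; exact E.add_mem ha hb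
        neg_mem' := fun {a} ha => by
          show autSingle σ (-a * d) ∈ E
          rwa [CharTwo.neg_eq] }
    have hA : A = ⊤ := by
      rw [eq_top_iff, ← hH.span_eq_top, AddSubgroup.closure_le]
      rintro _ ⟨ν, hν, rfl⟩
      obtain ⟨μ, hμ, e⟩ := (weight_bij hf).2 ν hν
      show autSingle σ ((ν : F) * d) ∈ E
      rw [← e]
      exact hwt μ hμ σ d hd
    have := show x * d⁻¹ ∈ A from hA ▸ AddSubgroup.mem_top _
    simpa [A, inv_mul_cancel_right₀ hd0] using this
  suffices hmem : ∀ T ∈ E, ∀ σ, autSingle σ (L T σ) ∈ E from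
    ⟨hmem, fun T hT σ hTσ => ⟨hid T hT σ hTσ, hall σ _ (hmem T hT σ) hTσ (hfix T hT σ hTσ)⟩⟩
  intro T hT
  suffices H' : ∀ (n : ℕ), ∀ T ∈ E, (Finset.univ.filter fun σ => L T σ ≠ 0).card ≤ n →
      ∀ σ, autSingle σ (L T σ) ∈ E from H' _ T hT le_rfl
  clear hT T
  intro n
  induction n with
  | zero =>
    intro T _ hn σ
    have : L T σ = 0 := by
      by_contra hc
      have hmemσ : σ ∈ Finset.univ.filter fun σ => L T σ ≠ 0 := by simp [hc]
      have := Finset.card_pos.mpr ⟨σ, hmemσ⟩
      omega
    rw [this, autSingle_zero]; exact E.zero_mem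
  | succ n ih =>
    intro T hT hn σ
    by_cases hσ : L T σ = 0
    · rw [hσ, autSingle_zero]; exact E.zero_mem
    by_cases hother : ∃ τ, τ ≠ σ ∧ L T τ ≠ 0
    swap
    · push Not at hother
      have : T = autSingle σ (L T σ) := by
        conv_lhs => rw [h1 T]
        exact Finset.sum_eq_single σ (fun τ _ hτ => by rw [hother τ hτ, autSingle_zero])
          (fun hn => absurd (Finset.mem_univ σ) hn)
      rw [← this]; exact hT
    obtain ⟨τ, hτσ, hτ⟩ := hother
    -- the sums of scalings, seen through their weights at `σ` and `τ`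
    let P : AddSubgroup (F × F) :=
      AddSubgroup.closure {p | ∃ μ ∈ H, p = (autWeight σ ((μ : Fˣ) : F), autWeight τ (μ : F))}
    have hP : ∀ p ∈ P, ∃ U ∈ E, L U σ = p.1 * L T σ ∧ L U τ = p.2 * L T τ ∧
        ∀ π, L T π = 0 → L U π = 0 := by
      intro p hp
      induction hp using AddSubgroup.closure_induction with
      | mem p hp =>
        obtain ⟨μ, hμ, rfl⟩ := hp
        refine ⟨_, hE μ hμ T hT, autCoeff_scaleConj h1 h2 _ _ _, autCoeff_scaleConj h1 h2 _ _ _,
          fun π h0 => by rw [autCoeff_scaleConj h1 h2, h0, mul_zero]⟩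
      | zero => exact ⟨0, E.zero_mem, by simp, by simp, fun π _ => by simp⟩
      | add p q _ _ hp hq =>
        obtain ⟨U, hU, u1, u2, u3⟩ := hp
        obtain ⟨V, hV, v1, v2, v3⟩ := hq
        exact ⟨U + V, E.add_mem hU hV, by simp [u1, v1, add_mul], by simp [u2, v2, add_mul],
          fun π h0 => by simp [u3 π h0, v3 π h0]⟩
      | neg p _ hp =>
        obtain ⟨U, hU, u1, u2, u3⟩ := hp
        exact ⟨-U, E.neg_mem hU, by simp [u1], by simp [u2], fun π h0 => by simp [u3 π h0]⟩
    obtain ⟨y, hy, hy0⟩ : ∃ y, ((0 : F), y) ∈ P ∧ y ≠ 0 := by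
      by_contra hcon
      push Not at hcon
      have hfun : ∀ p ∈ P, ∀ q ∈ P, p.1 = q.1 → p.2 = q.2 := fun p hp q hq e => by
        have := hcon (p.2 - q.2) (by
          have := P.sub_mem hp hq
          rwa [show p - q = (0, p.2 - q.2) from Prod.ext (by simp [e]) rfl] at this)
        exact sub_eq_zero.mp this
      have htot : ∀ x, ∃ y, (x, y) ∈ P := by
        let A : AddSubgroup F := P.map (AddMonoidHom.fst F F)
        have hA : A = ⊤ := by
          rw [eq_top_iff, ← hH.span_eq_top, AddSubgroup.closure_le]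
          rintro _ ⟨ν, hν, rfl⟩
          obtain ⟨μ, hμ, e⟩ := (weight_bij (hfix T hT σ hσ)).2 ν hν
          exact ⟨_, AddSubgroup.subset_closure ⟨μ, hμ, rfl⟩, e⟩
        intro x
        obtain ⟨p, hp, e⟩ := show x ∈ A from hA ▸ AddSubgroup.mem_top x
        exact ⟨p.2, by rwa [show (x, p.2) = p from Prod.ext e.symm rfl]⟩
      choose r hr using htot
      have hmulP : ∀ p ∈ P, ∀ q ∈ P, p * q ∈ P := by
        intro p hp
        induction hp using AddSubgroup.closure_induction with
        | mem p hp =>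
          intro q hq
          induction hq using AddSubgroup.closure_induction with
          | mem q hq =>
            obtain ⟨μ, hμ, rfl⟩ := hp
            obtain ⟨ν, hν, rfl⟩ := hq
            exact AddSubgroup.subset_closure ⟨μ * ν, H.mul_mem hμ hν, by
              simp [Units.val_mul, autWeight_mul]⟩
          | zero => rw [mul_zero]; exact P.zero_mem
          | add a b _ _ ha hb => rw [mul_add]; exact P.add_mem ha hb
          | neg a _ ha => rw [mul_neg]; exact P.neg_mem ha
        | zero => intro q _; rw [zero_mul]; exact P.zero_mem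
        | add a b _ _ ha hb => intro q hq; rw [add_mul]; exact P.add_mem (ha q hq) (hb q hq)
        | neg a _ ha => intro q hq; rw [neg_mul]; exact P.neg_mem (ha q hq)
      let ρ' : F →+* F :=
        { toFun := r
          map_one' := hfun _ (hr 1) (1, 1) (AddSubgroup.subset_closure ⟨1, H.one_mem, by
            simp [autWeight]⟩) rfl
          map_mul' := fun a b => hfun _ (hr (a * b)) _ (hmulP _ (hr a) _ (hr b)) rfl
          map_zero' := hfun _ (hr 0) 0 P.zero_mem rfl
          map_add' := fun a b => hfun _ (hr (a + b)) _ (P.add_mem (hr a) (hr b)) rfl }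
      let ρ : F ≃+* F := RingEquiv.ofBijective ρ'
        (Finite.injective_iff_bijective.mp ρ'.injective)
      have hr' : ∀ μ ∈ H, autWeight τ ((μ : Fˣ) : F) = ρ (autWeight σ (μ : F)) := fun μ hμ =>
        hfun _ (AddSubgroup.subset_closure ⟨μ, hμ, rfl⟩) _ (hr _) rfl
      have hid' : ∀ μ ∈ H, ((μ : Fˣ) : F) * ρ (σ μ) = ρ μ * τ μ := by
        intro μ hμ
        have := hr' μ hμ
        simp only [autWeight, map_mul, map_inv₀] at this
        have e1 : τ (μ : F) ≠ 0 := by simp
        have e2 : ρ (σ (μ : F)) ≠ 0 := by simp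
        field_simp at this
        linear_combination this
      have hallid := hH.twist σ τ ρ (Ne.symm hτσ) hid'
      refine autWeight_twist (hid T hT σ hσ) (hid T hT τ hτ) (Ne.symm hτσ) (ρ := ρ) fun μ => ?_
      by_cases hμ : μ = 0
      · simp [hμ, autWeight_zero]
      simp only [autWeight, map_mul, map_inv₀]
      have e1 : τ μ ≠ 0 := by simpa using hμ
      have e2 : ρ (σ μ) ≠ 0 := by simpa using hμ
      field_simp
      linear_combination hallid μ
    obtain ⟨U, hU, u1, u2, u3⟩ := hP _ hy
    have hUlt : (Finset.univ.filter fun π => L U π ≠ 0).card ≤ n := by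
      have : (Finset.univ.filter fun π => L U π ≠ 0) ⊆
          (Finset.univ.filter fun π => L T π ≠ 0).erase σ := by
        intro π hπ
        simp only [Finset.mem_filter, Finset.mem_univ, true_and, Finset.mem_erase] at hπ ⊢
        exact ⟨fun he => hπ (by rw [he, u1, zero_mul]), fun he => hπ (u3 π he)⟩
      have h3 := Finset.card_le_card this
      rw [Finset.card_erase_of_mem (by simp [hσ])] at h3
      omega
    have hne : L U τ ≠ 0 := by rw [u2]; exact mul_ne_zero hy0 hτ
    have hTτ : autSingle τ (L T τ) ∈ E :=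
      hall τ _ (ih U hU hUlt τ) hne (hfix T hT τ hτ) _
    have hsub : T - autSingle τ (L T τ) ∈ E := E.sub_mem hT hTτ
    have hLd : ∀ π, L (T - autSingle τ (L T τ)) π = if π = τ then 0 else L T π := by
      intro π
      rw [map_sub, Pi.sub_apply, coeff_autSingle h2]
      by_cases hπ : π = τ
      · simp [hπ]
      · simp [hπ]
    have := ih _ hsub (by
      have : (Finset.univ.filter fun π => L (T - autSingle τ (L T τ)) π ≠ 0) ⊆
          (Finset.univ.filter fun π => L T π ≠ 0).erase τ := by
        intro π hπ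
        simp only [Finset.mem_filter, Finset.mem_univ, true_and, Finset.mem_erase] at hπ ⊢
        rw [hLd] at hπ
        by_cases he : π = τ
        · simp [he] at hπ
        · exact ⟨he, by rwa [if_neg he] at hπ⟩
      have h3 := Finset.card_le_card this
      rw [Finset.card_erase_of_mem (by simp [hτ])] at h3
      omega) σ
    rwa [hLd, if_neg (Ne.symm hτσ)] at this

omit [Fintype (F ≃+* F)] in
/-- A quadratic map on such a space with `T (s T) = 0` is zero. -/
theorem endo_quad_eq_zero_of_good {H : Subgroup Fˣ} (hH : GoodSub H) (hH1 : H ≠ ⊥)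
    (E : AddSubgroup (F →+ F)) (hE : ∀ μ ∈ H, ∀ T ∈ E, scaleConj ((μ : Fˣ) : F) T ∈ E)
    (hfree : ∀ μ ∈ H, ∀ T ∈ E, scaleConj ((μ : Fˣ) : F) T = T → T = 0 ∨ μ = 1)
    (s : (F →+ F) → F) (hTs : ∀ T ∈ E, T (s T) = 0)
    (hc : ∀ A ∈ E, ∀ B ∈ E, ∀ C ∈ E,
      s (A + B + C) + s (A + B) + s (A + C) + s (B + C) + s A + s B + s C = 0) :
    ∀ T ∈ E, s T = 0 := by
  classical
  haveI := FieldAutBasis.finite_ringAut (F := F)
  letI : Fintype (F ≃+* F) := Fintype.ofFinite _
  obtain ⟨L, h1, h2⟩ := exists_autCoeff (F := F)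
  obtain ⟨hmem, hact⟩ := autSingle_mem_of_good hH hH1 E hE hfree h1 h2
  have hself : ∀ x : F, x + x = 0 := CharTwo.add_self_eq_zero
  have hs0 : s 0 = 0 := by
    have := hc 0 E.zero_mem 0 E.zero_mem 0 E.zero_mem
    simp only [add_zero, hself, zero_add] at this
    exact this
  have hinjs : ∀ σ a, a ≠ 0 → Function.Injective (autSingle σ a : F →+ F) := fun σ a ha x y e =>
    σ.injective (mul_left_cancel₀ ha e)
  have hsingle : ∀ σ a, autSingle σ a ∈ E → s (autSingle σ a) = 0 := by
    intro σ a ha
    by_cases h0 : a = 0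
    · rw [h0, autSingle_zero, hs0]
    exact hinjs σ a h0 (by rw [hTs _ ha, map_zero])
  let c : (F →+ F) → (F →+ F) → F := fun A B => s (A + B) + s A + s B
  have hcadd : ∀ A ∈ E, ∀ B ∈ E, ∀ C ∈ E, c A (B + C) = c A B + c A C := by
    intro A hA B hB C hC
    apply CharTwo.add_eq_zero.mp
    have := hc A hA B hB C hC
    simp only [c, ← add_assoc]
    linear_combination this + hself (s A)
  have hcsymm : ∀ A B, c A B = c B A := fun A B => by simp only [c, add_comm A B]; ring
  -- the pairing of two components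
  have hpair : ∀ σ τ a b, autSingle σ a ∈ E → autSingle τ b ∈ E →
      c (autSingle σ a) (autSingle τ b) = 0 := by
    intro σ τ a b ha hb
    by_cases ha0 : a = 0
    · rw [ha0, autSingle_zero]; simp [c, hs0, hself]
    by_cases hb0 : b = 0
    · rw [hb0, autSingle_zero]; simp [c, hs0, hself]
    by_cases hστ : σ = τ
    · subst hστ
      simp only [c, hsingle σ a ha, hsingle σ b hb, ← autSingle_add, add_zero]
      exact hsingle σ _ (by rw [autSingle_add]; exact E.add_mem ha hb)
    have hcoef : ∀ π d, L (autSingle π d) π = d := by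
      intro π d
      rw [h2 _ (fun ρ => if ρ = π then d else 0) (by
        rw [Finset.sum_eq_single π (fun ρ _ hρ => by rw [if_neg hρ, autSingle_zero])
          (fun hn => absurd (Finset.mem_univ π) hn), if_pos rfl])]
      simp
    have hall : ∀ π d, autSingle π d ∈ E → d ≠ 0 → (∀ x, autSingle π x ∈ E) ∧
        π ≠ RingEquiv.refl F := fun π d hd hd0 => by
      obtain ⟨e1, e2⟩ := hact _ hd π (by rw [hcoef]; exact hd0)
      exact ⟨e2, e1⟩
    obtain ⟨hσE, hσ1⟩ := hall σ a ha ha0
    obtain ⟨hτE, hτ1⟩ := hall τ b hb hb0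
    let C : F → F → F := fun x y => c (autSingle σ x) (autSingle τ y)
    have hCl : ∀ x x' y, C (x + x') y = C x y + C x' y := fun x x' y => by
      simp only [C, autSingle_add, hcsymm _ (autSingle τ y)]
      exact hcadd _ (hτE y) _ (hσE x) _ (hσE x')
    have hCr : ∀ x y y', C x (y + y') = C x y + C x y' := fun x y y' => by
      simp only [C, autSingle_add]
      exact hcadd _ (hσE x) _ (hτE y) _ (hτE y')
    have hC : ∀ x y, x * σ (C x y) + y * τ (C x y) = 0 := by
      intro x y
      have := hTs _ (E.add_mem (hσE x) (hτE y))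
      have e : s (autSingle σ x + autSingle τ y) = C x y := by
        simp only [C, c, hsingle σ x (hσE x), hsingle τ y (hτE y), add_zero]
      rw [e, AddMonoidHom.add_apply] at this
      exact this
    have hx : ∀ x y, σ (C x y) = x * σ (C 1 y) := by
      intro x y
      have e1 := hC (x + 1) y
      have e2 := hC x y
      have e3 := hC 1 y
      rw [hCl] at e1
      simp only [map_add] at e1
      apply CharTwo.add_eq_zero.mp
      linear_combination e1 - e2 - e3
    have hy : ∀ x y, τ (C x y) = y * τ (C x 1) := by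
      intro x y
      have e1 := hC x (y + 1)
      have e2 := hC x y
      have e3 := hC x 1
      rw [hCr] at e1
      simp only [map_add] at e1
      apply CharTwo.add_eq_zero.mp
      linear_combination e1 - e2 - e3
    set κ := C 1 1
    have hform : ∀ x y, C x y = σ.symm x * τ.symm y * κ := by
      intro x y
      have e1 := congrArg σ.symm (hx x y)
      rw [RingEquiv.symm_apply_apply, map_mul, RingEquiv.symm_apply_apply] at e1
      have e2 := congrArg τ.symm (hy 1 y)
      rw [RingEquiv.symm_apply_apply, map_mul, RingEquiv.symm_apply_apply] at e2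
      rw [e1, e2, mul_assoc]
    show C a b = 0
    by_cases hκ : κ = 0
    · rw [hform, hκ, mul_zero]
    exfalso
    have e11 := hC 1 1
    rw [one_mul, one_mul] at e11
    have hστκ : σ κ = τ κ := CharTwo.add_eq_zero.mp e11
    have hκσ : σ κ ≠ 0 := by simpa using hκ
    have hX : ∀ x, τ (σ.symm x) = x * x := by
      intro x
      have := hC x 1
      rw [hform] at this
      simp only [map_one, mul_one, map_mul, RingEquiv.apply_symm_apply, one_mul, ← hστκ] at this
      apply CharTwo.add_eq_zero.mp
      have e : (x * x + τ (σ.symm x)) * σ κ = 0 := by linear_combination this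
      rw [add_comm]
      exact (mul_eq_zero.mp e).resolve_right hκσ
    have hY : ∀ y, σ (τ.symm y) = y * y := by
      intro y
      have := hC 1 y
      rw [hform] at this
      simp only [map_one, one_mul, map_mul, RingEquiv.apply_symm_apply, ← hστκ] at this
      apply CharTwo.add_eq_zero.mp
      have e : (σ (τ.symm y) + y * y) * σ κ = 0 := by linear_combination this
      exact (mul_eq_zero.mp e).resolve_right hκσ
    have h4 : ∀ x : F, x = x * x * (x * x) := fun x => by
      have := hY (τ (σ.symm x))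
      rwa [RingEquiv.symm_apply_apply, RingEquiv.apply_symm_apply, hX] at this
    have hsq : ∀ π : F ≃+* F, π ≠ RingEquiv.refl F → ∀ x, π x = x * x := by
      intro π hπ
      have hor : ∀ x, π x = x ∨ π x = x * x := by
        intro x
        by_cases h0 : x * x = x
        · rcases mul_eq_zero.mp (show x * (x - 1) = 0 by linear_combination h0) with he | he
          · simp [he]
          · simp [sub_eq_zero.mp he]
        have hx3 : x * x + x + 1 = 0 := by
          have e : x * (x - 1) * (x * x + x + 1) = 0 := by linear_combination -(h4 x)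
          exact (mul_eq_zero.mp e).resolve_left fun he => h0 (by linear_combination he)
        have hp3 : π x * π x + π x + 1 = 0 := by
          have := congrArg π hx3
          simpa using this
        have e : (π x - x) * (π x - x * x) = 0 := by
          linear_combination hp3 + (x - 1 - π x) * hx3
        rcases mul_eq_zero.mp e with he | he
        · exact Or.inl (sub_eq_zero.mp he)
        · exact Or.inr (sub_eq_zero.mp he)
      obtain ⟨g, hg⟩ : ∃ g, π g ≠ g := by
        by_contra hcon
        push_neg at hcon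
        exact hπ (RingEquiv.ext hcon)
      intro x
      rcases hor x with hxx | hxx
      · rcases hor (x + g) with hxg | hxg
        · rw [map_add, hxx] at hxg
          exact absurd (add_left_cancel hxg) hg
        · rw [map_add, hxx, (hor g).resolve_left hg, CharTwo.add_mul_self] at hxg
          rw [hxx]
          exact add_right_cancel hxg
      · exact hxx
    exact hστ (RingEquiv.ext fun x => by rw [hsq σ hσ1, hsq τ hτ1])
  -- all components
  intro T hT
  rw [h1 T]
  have hsum : ∀ S : Finset (F ≃+* F), ∑ σ ∈ S, autSingle σ (L T σ) ∈ E := fun S =>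
    E.sum_mem fun σ _ => hmem T hT σ
  induction (Finset.univ : Finset (F ≃+* F)) using Finset.induction_on with
  | empty => rw [Finset.sum_empty, hs0]
  | @insert σ S hσS ih =>
    rw [Finset.sum_insert hσS]
    have hcS : ∀ R : Finset (F ≃+* F),
        c (autSingle σ (L T σ)) (∑ τ ∈ R, autSingle τ (L T τ)) = 0 := by
      intro R
      induction R using Finset.induction_on with
      | empty => simp [c, hs0, hself]
      | @insert τ R hτR ihR =>
        rw [Finset.sum_insert hτR, hcadd _ (hmem T hT σ) _ (hmem T hT τ) _ (hsum R), ihR,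
          hpair _ _ _ _ (hmem T hT σ) (hmem T hT τ), add_zero]
    have := hcS S
    simp only [c, ih, hsingle σ _ (hmem T hT σ), add_zero] at this
    exact this

end CfsgLib.SuzukiSolv
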